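import Cfsg.Agent.Lib.LinearSmall.Nineteen.Others
import Cfsg.Agent.Lib.FeitSmall.OddB0
import Cfsg.Agent.Lib.CharTheory.AltSquare

/-!
# The squares of a character of degree four at the prime seven
-/

namespace CfsgLib.LinearSmall.SevenFour

open Cfsg CfsgLib.Blocks CfsgLib.Blocks.DefectOne CfsgLib.CharTheory CfsgLib.CharTheory.SmallDegree
open CfsgLib.SmallSylow CfsgLib.FeitSmall Finset
open CfsgLib.LinearSmall.Nineteen (others mem_others others_shape others_sq others_reg)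
open scoped ComplexConjugate

set_option linter.unusedVariables false
set_option linter.style.haveILetI false
set_option linter.unusedSectionVars false

universe u

instance fact_seven : Fact (Nat.Prime 7) := ⟨by norm_num⟩

variable {G : Type u} [Group G] [Fintype G] {P : Sylow 7 G} {x : G} {D : Data P x 3 2}
  {ζ : IrrCharacter G} {w W : Subgroup.center G →* ℂ} {F : ZMod 7 → IrrCharacter G} {n : ℕ} {ε : ℤ}

/-- The standing hypotheses. -/
structure Base (D : Data P x 3 2) (ζ : IrrCharacter G) (w : Subgroup.center G →* ℂ) : Prop where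
  perfect : commutator G = ⊤
  hH : Compl (P : Subgroup G) (Subgroup.center G)
  faith : ∀ g : G, (ζ : G → ℂ) g = (ζ : G → ℂ) 1 → g = 1
  deg : (ζ : G → ℂ) 1 = 4
  cen : HasCen (ζ : G → ℂ) w
  shape : ∃ a : ZMod 7, a ≠ 0 ∧ Shape x 3 (ζ : G → ℂ) a 1 (-1)
  no_three : ∀ χ : IrrCharacter G, (χ : G → ℂ) 1 ≠ 3

/-- The exterior square. -/
noncomputable def extF (ζ : IrrCharacter G) (g : G) : ℂ := ((ζ : G → ℂ) g ^ 2 - (ζ : G → ℂ) (g * g)) / 2

/-- The symmetric square. -/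
noncomputable def symF (ζ : IrrCharacter G) (g : G) : ℂ := ((ζ : G → ℂ) g ^ 2 + (ζ : G → ℂ) (g * g)) / 2

theorem isCharacter_extF : IsCharacter G (extF ζ) := isCharacter_altSq (isCharacter_of_irr ζ.2)

theorem isCharacter_symF : IsCharacter G (symF ζ) := CfsgLib.FeitSmall.isCharacter_symSq' (isCharacter_of_irr ζ.2)

theorem hasCen_sq (h : HasCen (ζ : G → ℂ) w) : HasCen (fun g => (ζ : G → ℂ) (g * g)) (w * w) := by
  intro g z
  show (ζ : G → ℂ) (g * z * (g * z)) = w z * w z * _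
  rw [show g * z * (g * z) = g * g * ((z * z : Subgroup.center G) : G) by
    rw [Subgroup.coe_mul, show g * z * (g * z) = g * ((z : G) * g) * z by group,
      ← Subgroup.mem_center_iff.1 z.2 g]
    group, h, map_mul]

theorem hasCen_extF (h : HasCen (ζ : G → ℂ) w) : HasCen (extF ζ) (w * w) := by
  intro g z
  have h1 := hasCen_sq h g z
  simp only [extF] at h1 ⊢
  rw [h1, h g z, MonoidHom.mul_apply]
  ring

theorem hasCen_symF (h : HasCen (ζ : G → ℂ) w) : HasCen (symF ζ) (w * w) := by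
  intro g z
  have h1 := hasCen_sq h g z
  simp only [symF] at h1 ⊢
  rw [h1, h g z, MonoidHom.mul_apply]
  ring

theorem sq_eq_add (g : G) : (ζ : G → ℂ) g ^ 2 = symF ζ g + extF ζ g := by
  simp only [symF, extF]; ring

theorem extF_one (hb : Base D ζ w) : extF ζ 1 = 6 := by rw [extF, one_mul, hb.deg]; norm_num

theorem symF_one (hb : Base D ζ w) : symF ζ 1 = 10 := by rw [symF, one_mul, hb.deg]; norm_num

theorem rts_eq : rts 7 3 = {1, 2, 4} := by decide

/-- The multiplicities of `ζ`. -/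
def mz (a z : ZMod 7) : ℕ := if z * a ^ 5 ∈ ({1, 2, 4} : Finset (ZMod 7)) then 0 else 1

theorem Base.mult (hb : Base D ζ w) : ∃ a : ZMod 7, a ≠ 0 ∧ ∀ z, CfsgLib.FeitSmall.mult x (ζ : G → ℂ) z = mz a z := by
  obtain ⟨a, ha, hS⟩ := hb.shape
  refine ⟨a, ha, fun z => ?_⟩
  rw [hS z, rts_eq, mz, div_eq_mul_inv, show a⁻¹ = a ^ 5 from inv_eq_of_mul_eq_one_right (by
    rw [← pow_succ']; exact ZMod.pow_card_sub_one_eq_one ha)]
  split_ifs <;> norm_num

theorem half (z : ZMod 7) : z / 2 = z * 4 := by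
  rw [div_eq_iff (by decide), mul_assoc, show (4 : ZMod 7) * 2 = 1 by decide, mul_one]

theorem table_sq : ∀ a : ZMod 7, a ≠ 0 →
    (∑ y, mz a y * mz a (0 - y)) = 1 ∧ mz a (0 * 4) = 1 ∧ (∑ y, mz a y * mz a y) = 4 ∧
      (∑ y, mz a y * mz a (a - y)) + mz a (a * 4) ≠ (∑ y, mz a y * mz a (-a - y)) + mz a (-a * 4) := by
  decide

theorem mult_extF_zero (hb : Base D ζ w) : CfsgLib.FeitSmall.mult x (extF ζ) (0 : ZMod 7) = 0 := by
  obtain ⟨a, ha, hm⟩ := hb.mult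
  have e : extF ζ = fun g => (2 : ℂ)⁻¹ *
      ((fun g => (ζ : G → ℂ) g * (ζ : G → ℂ) g) g + (fun g => (-1 : ℂ) * (ζ : G → ℂ) (g * g)) g) := by
    funext g; simp only [extF]; ring
  obtain ⟨t1, t2, -⟩ := table_sq a ha
  rw [e, mult_smul, mult_add, mult_smul, mult_mul, mult_sq D (by norm_num), half,
    Finset.sum_congr rfl fun y _ => show CfsgLib.FeitSmall.mult x (ζ : G → ℂ) y *
      CfsgLib.FeitSmall.mult x (ζ : G → ℂ) (0 - y) = ((mz a y * mz a (0 - y) : ℕ) : ℂ) by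
      rw [hm, hm, Nat.cast_mul], ← Nat.cast_sum, t1, hm, t2]
  norm_num

theorem mult_symF (hb : Base D ζ w) : CfsgLib.FeitSmall.mult x (symF ζ) (0 : ZMod 7) = 1 ∧
    ∃ z z' : ZMod 7, z ≠ 0 ∧ z' ≠ 0 ∧
      CfsgLib.FeitSmall.mult x (symF ζ) z ≠ CfsgLib.FeitSmall.mult x (symF ζ) z' := by
  obtain ⟨a, ha, hm⟩ := hb.mult
  have e : symF ζ = fun g => (2 : ℂ)⁻¹ *
      ((fun g => (ζ : G → ℂ) g * (ζ : G → ℂ) g) g + (fun g => (ζ : G → ℂ) (g * g)) g) := by
    funext g; simp only [symF]; ring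
  have hval : ∀ z, CfsgLib.FeitSmall.mult x (symF ζ) z =
      (2 : ℂ)⁻¹ * (((∑ y, mz a y * mz a (z - y)) + mz a (z * 4) : ℕ) : ℂ) := fun z => by
    rw [e, mult_smul, mult_add, mult_mul, mult_sq D (by norm_num), half, hm, Nat.cast_add, Nat.cast_sum]
    simp only [hm, Nat.cast_mul]
  obtain ⟨t1, t2, -, t4⟩ := table_sq a ha
  refine ⟨?_, a, -a, ha, neg_ne_zero.2 ha, fun h => t4 ?_⟩
  · rw [hval, t1, t2]; norm_num
  · rw [hval, hval] at h
    exact_mod_cast mul_left_cancel₀ (by norm_num) h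

/-- The degree of a member of a family. -/
theorem fam_deg (hF : Fam D W F n ε) {a : ZMod 7} (ha : a ≠ 0) :
    (F a : G → ℂ) 1 = 7 * (n : ℂ) + 3 * (ε : ℂ) ∧ CfsgLib.FeitSmall.mult x (F a : G → ℂ) (0 : ZMod 7) = n := by
  refine ⟨?_, ?_⟩
  · rw [← sum_mult (x := x) (p := 7) (F a : G → ℂ), Finset.sum_congr rfl fun z _ => hF.vals a ha z, sum_add_distrib,
      ← mul_sum, sum_const, card_univ, ZMod.card, nsmul_eq_mul, sum_ind D.A ha]
    push_cast
    ring
  · rw [hF.vals a ha, if_neg (zero_div_notMem D.A a), mul_zero, add_zero]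

theorem fam_pos (hb : Base D ζ w) (hF : Fam D W F n ε) : 1 ≤ n := by
  by_contra h
  obtain rfl : n = 0 := by omega
  obtain ⟨h1, -⟩ := fam_deg hF (one_ne_zero (α := ZMod 7))
  obtain ⟨d, R, -, hRχ⟩ := (F 1).2
  have hd : (d : ℂ) = (F 1 : G → ℂ) 1 := by rw [← hRχ, R.char_one, Module.finrank_fin_fun]
  rcases hF.sgn with rfl | rfl
  · exact hb.no_three (F 1) (by rw [h1]; norm_num)
  · rw [h1] at hd
    have : ((d + 3 : ℕ) : ℂ) = 0 := by push_cast at hd ⊢; linear_combination hd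
    exact absurd (Nat.cast_eq_zero.1 this) (by omega)

/-- A character whose multiplicity at zero vanishes. -/
theorem exists_six (hb : Base D ζ w) (hF : Fam D W F n ε) {f : G → ℂ} (hf : IsCharacter G f) (hw : HasCen f W)
    (h0 : CfsgLib.FeitSmall.mult x f (0 : ZMod 7) = 0) (h1 : f 1 = 6) :
    ∃ X ∈ others F W, (X : G → ℂ) = f ∧ (X : G → ℂ) x = -1 := by
  obtain ⟨χ₀, hirr, hc⟩ := CfsgLib.CharTheory.exists_constituent hf (fun h => by rw [h] at h1; norm_num at h1)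
  set χ : IrrCharacter G := ⟨χ₀, hirr⟩
  have hsub := isCharacter_sub_irr hf hirr hc
  obtain ⟨m0, hm0⟩ := D.mult_nat (isCharacter_of_irr χ.2) (0 : ZMod 7)
  obtain ⟨m1, hm1⟩ := D.mult_nat hsub (0 : ZMod 7)
  have hsum : CfsgLib.FeitSmall.mult x f (0 : ZMod 7) = (m0 : ℂ) + m1 := by
    rw [← hm0, ← hm1, ← mult_add]
    congr 1
    funext g
    simp [χ]
  obtain ⟨rfl, rfl⟩ : m0 = 0 ∧ m1 = 0 := by
    rw [h0] at hsum
    have : m0 + m1 = 0 := by exact_mod_cast hsum.symm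
    omega
  have hcW := hw.of_inner χ hc
  by_cases hfam : χ ∈ others F W
  · obtain ⟨σ, M, hσ0, -, hσx, hσd⟩ := others_shape hF hfam
    rw [hm0] at hσ0
    have hM : (M : ℤ) + σ = 0 := by exact_mod_cast hσ0.symm
    obtain ⟨d, R, -, hRχ⟩ := χ.2
    have hd : (d : ℂ) = (χ : G → ℂ) 1 := by rw [← hRχ, R.char_one, Module.finrank_fin_fun]
    obtain ⟨d', R', hR'χ⟩ := hsub
    have hd' : (d' : ℂ) = f 1 - (χ : G → ℂ) 1 := by
      rw [show f 1 - (χ : G → ℂ) 1 = (f - χ₀) 1 from rfl, ← hR'χ, R'.char_one, Module.finrank_fin_fun]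
    rw [h1, ← hd] at hd'
    have e1 : d + d' = 6 := by
      have : ((d + d' : ℕ) : ℂ) = ((6 : ℕ) : ℂ) := by push_cast; linear_combination hd'
      exact_mod_cast this
    have e2 : (d : ℤ) = 7 * M + σ := by
      have : ((d : ℤ) : ℂ) = ((7 * M + σ : ℤ) : ℂ) := by
        push_cast; rw [hd, hσd]; norm_num
      exact_mod_cast this
    have hd0 : d ≠ 0 := fun h => irr_one_ne_zero χ (by rw [← hd, h, Nat.cast_zero])
    obtain ⟨rfl, rfl⟩ : M = 1 ∧ σ = -1 := by omega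
    refine ⟨χ, hfam, ?_, by rw [hσx]; norm_num⟩
    have hz : f - χ₀ = 0 := CfsgLib.CharTheory.eq_zero_of_degree_zero ⟨d', R', hR'χ⟩ (by
      show f 1 - (χ : G → ℂ) 1 = 0
      rw [h1, ← hd, show d = 6 by omega]; norm_num)
    exact (sub_eq_zero.1 hz).symm
  · rw [mem_others, not_and] at hfam
    have := hfam hcW
    push Not at this
    obtain ⟨a, ha, hχ⟩ := this
    have h2 := (fam_deg hF ha).2
    rw [← hχ, hm0, Nat.cast_inj] at h2
    have := fam_pos hb hF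
    omega

/-- The two squares over `w * w`. -/
theorem squares (hb : Base D ζ w) (hF : Fam D (w * w) F n ε) :
    n = 1 ∧ ∃ X ∈ others F (w * w), (X : G → ℂ) = extF ζ ∧ (X : G → ℂ) x = -1 ∧ ∃ b, b ≠ 0 ∧
      ((ε = 1 ∧ (F b : G → ℂ) = symF ζ) ∨
       (ε = -1 ∧ ∃ Y ∈ others F (w * w), (Y : G → ℂ) x = -1 ∧ symF ζ = (F b : G → ℂ) + (Y : G → ℂ))) := by
  obtain ⟨X, hX, hXf, hXx⟩ := exists_six hb hF isCharacter_extF (hasCen_extF hb.cen) (mult_extF_zero hb) (extF_one hb)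
  obtain ⟨hS0, z, z', hz, hz', hzz⟩ := mult_symF hb
  have hScf : IsClassFunction G (symF ζ) := isClassFunction_char isCharacter_symF
  obtain ⟨b, hb0, hcb⟩ : ∃ b, b ≠ 0 ∧ classInner (symF ζ) (F b : G → ℂ) ≠ 0 := by
    have h1 := hF.coef hScf (hasCen_symF hb.cen) hz hz'
    by_contra hno
    push Not at hno
    rw [hno z hz, hno z' hz', sub_zero, mul_zero, sub_eq_zero] at h1
    exact hzz h1
  have hsub := isCharacter_sub_irr (isCharacter_symF (ζ := ζ)) (F b).2 hcb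
  obtain ⟨m1, hm1⟩ := D.mult_nat hsub (0 : ZMod 7)
  obtain ⟨hd1, hd0⟩ := fam_deg hF hb0
  have hn : (n : ℂ) + m1 = 1 := by
    rw [← hS0, ← hd0, ← hm1, ← mult_add]
    congr 1
    funext g; simp
  have hn' : n + m1 = 1 := by exact_mod_cast hn
  have hn1 := fam_pos hb hF
  obtain ⟨rfl, rfl⟩ : n = 1 ∧ m1 = 0 := by omega
  refine ⟨rfl, X, hX, hXf, hXx, b, hb0, ?_⟩
  rcases hF.sgn with rfl | rfl
  · refine Or.inl ⟨rfl, ?_⟩
    have hz0 : symF ζ - (F b : G → ℂ) = 0 := CfsgLib.CharTheory.eq_zero_of_degree_zero hsub (by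
      show symF ζ 1 - (F b : G → ℂ) 1 = 0
      rw [symF_one hb, hd1]; norm_num)
    exact (sub_eq_zero.1 hz0).symm
  · refine Or.inr ⟨rfl, ?_⟩
    have hw : HasCen (symF ζ - (F b : G → ℂ)) (w * w) := fun g z => by
      show symF ζ (g * z) - (F b : G → ℂ) (g * z) = _ * (symF ζ g - (F b : G → ℂ) g)
      rw [hasCen_symF hb.cen g z, hF.cen b hb0 g z]; ring
    obtain ⟨Y, hY, hYf, hYx⟩ := exists_six hb hF hsub hw (by rw [hm1, Nat.cast_zero]) (by
      show symF ζ 1 - (F b : G → ℂ) 1 = 6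
      rw [symF_one hb, hd1]; norm_num)
    exact ⟨Y, hY, hYx, by rw [hYf]; abel⟩

end CfsgLib.LinearSmall.SevenFour
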