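import Cfsg.Agent.Lib.CharTheory.Galois
import Cfsg.Agent.Lib.CharTheory.DetOrbit
import Cfsg.Agent.Lib.FeitSmall.Perfect

/-!
# Rational sums of roots of unity
-/

namespace CfsgLib.LinearSmall.SevenFour

open Cfsg CfsgLib.CharTheory Finset

set_option linter.unusedVariables false
set_option linter.style.haveILetI false
set_option linter.unusedSectionVars false

universe u

variable {G : Type u} [Group G] [Finite G]

/-- The eigenvalues of an element. -/
theorem exists_roots_det {d : ℕ} (R : Representation ℂ G (Fin d → ℂ)) (g : G) :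
    ∃ s : Multiset ℂ, (∀ x ∈ s, x ^ orderOf g = 1) ∧ (∀ m : ℕ, R.character (g ^ m) = (s.map (· ^ m)).sum) ∧
      s.prod = LinearMap.det (R g) := by
  classical
  let C := Subgroup.zpowers g
  have := Fintype.ofFinite C
  let RC : Representation ℂ C (Fin d → ℂ) := R.comp C.subtype
  have hres : IsCharacter C RC.character := isCharacter_character RC
  have hcomm : ∀ a b : C, a * b = b * a := fun a b => by
    obtain ⟨i, hi⟩ := Subgroup.mem_zpowers_iff.mp a.2
    obtain ⟨j, hj⟩ := Subgroup.mem_zpowers_iff.mp b.2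
    exact Subtype.ext (by simp [← hi, ← hj, ← zpow_add, add_comm])
  obtain ⟨hcf, hcoef⟩ := isCharacter_iff_coeff_nat.mp hres
  choose c hc using fun φ : IrrCharacter C => hcoef φ φ.2
  choose f hf using fun φ : IrrCharacter C =>
    exists_hom_of_degree_one (isCharacter_of_irr φ.2) (degree_one_of_commutative hcomm φ.2)
  let a : C := ⟨g, Subgroup.mem_zpowers g⟩
  have hsum : RC.character = ∑ φ : IrrCharacter C, ((c φ : ℕ) : ℂ) • fun y => (f φ y : ℂ) := by
    rw [eq_sum_irr hcf]
    refine Finset.sum_congr rfl fun φ _ => ?_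
    rw [hc φ]
    congr 1
    funext y
    exact congrFun (hf φ) y
  refine ⟨∑ φ : IrrCharacter C, Multiset.replicate (c φ) (f φ a : ℂ), ?_, fun m => ?_, ?_⟩
  · intro x hx
    obtain ⟨φ, -, hφ⟩ := Multiset.mem_sum.mp hx
    rw [Multiset.eq_of_mem_replicate hφ, ← Units.val_pow_eq_pow_val, ← map_pow]
    have : a ^ orderOf g = 1 := Subtype.ext (by simp [a, pow_orderOf_eq_one])
    rw [this, map_one, Units.val_one]
  · have h := congrFun hsum (a ^ m)
    simp only [Finset.sum_apply, Pi.smul_apply, smul_eq_mul] at h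
    have e : RC.character (a ^ m) = R.character (g ^ m) := by
      show LinearMap.trace ℂ _ (R ((a ^ m : C) : G)) = _
      rw [SubmonoidClass.coe_pow]
      rfl
    rw [← e, h]
    let M : Multiset ℂ →+ ℂ :=
      { toFun := fun s => (s.map (· ^ m)).sum
        map_zero' := by simp
        map_add' := fun a b => by simp }
    show _ = M _
    rw [map_sum]
    refine Finset.sum_congr rfl fun φ _ => ?_
    show _ = ((Multiset.replicate (c φ) (f φ a : ℂ)).map (· ^ m)).sum
    rw [Multiset.map_replicate, Multiset.sum_replicate, nsmul_eq_mul, map_pow, Units.val_pow_eq_pow_val]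
  · have h1 : detChar RC.character a = LinearMap.det (R g) := by
      rw [detChar_eq]
      exact coe_detHom RC a
    rw [← h1, hsum, detChar_sum _ _ (fun φ _ => isCharacter_nsmul ((hf φ) ▸ isCharacter_of_irr φ.2) _),
      Multiset.prod_sum, Finset.prod_apply]
    refine Finset.prod_congr rfl fun φ _ => ?_
    rw [detChar_nsmul ((hf φ) ▸ isCharacter_of_irr φ.2), Pi.pow_apply, detChar_linear, Multiset.prod_replicate]

omit [Finite G] in
/-- The count of a root from the sums of the powers. -/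
theorem count_mul [DecidableEq ℂ] {n : ℕ} (hn : 0 < n) {ω : ℂ} (hω : ω ^ n = 1) (s : Multiset ℂ) (hs : ∀ x ∈ s, x ^ n = 1) :
    ∑ j ∈ range n, (s.map (· ^ j)).sum * (ω⁻¹) ^ j = (s.count ω : ℂ) * n := by
  have hω0 : ω ≠ 0 := fun h => by rw [h, zero_pow hn.ne'] at hω; exact zero_ne_one hω
  induction s using Multiset.induction_on with
  | empty => simp
  | cons x s ih =>
    have hx := hs x (Multiset.mem_cons_self x s)
    have h1 : ∑ j ∈ range n, x ^ j * (ω⁻¹) ^ j = if ω = x then (n : ℂ) else 0 := by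
      rw [Finset.sum_congr rfl fun j _ => (mul_pow x ω⁻¹ j).symm]
      split_ifs with h
      · subst h
        simp [mul_inv_cancel₀ hω0]
      · rw [geom_sum_eq]
        · rw [mul_pow, hx, inv_pow, hω, inv_one, mul_one, sub_self, zero_div]
        · intro h'
          exact h ((mul_inv_eq_one₀ hω0).1 h').symm
    simp only [Multiset.map_cons, Multiset.sum_cons, add_mul, Finset.sum_add_distrib]
    rw [h1, ih fun y hy => hs y (Multiset.mem_cons_of_mem hy), Multiset.count_cons]
    split_ifs <;> push_cast <;> ring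

omit [Finite G] in
/-- Roots are determined by the sums of their powers. -/
theorem eq_of_power_sums {n : ℕ} (hn : 0 < n) {s t : Multiset ℂ} (hs : ∀ x ∈ s, x ^ n = 1) (ht : ∀ x ∈ t, x ^ n = 1)
    (h : ∀ j : ℕ, (s.map (· ^ j)).sum = (t.map (· ^ j)).sum) : s = t := by
  classical
  refine Multiset.ext.2 fun ω => ?_
  by_cases hω : ω ^ n = 1
  · have h1 := count_mul hn hω s hs
    simp only [h] at h1
    rw [count_mul hn hω t ht] at h1
    exact_mod_cast (mul_right_cancel₀ (Nat.cast_ne_zero.2 hn.ne') h1).symm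
  · rw [Multiset.count_eq_zero.2 fun hc => hω (hs ω hc), Multiset.count_eq_zero.2 fun hc => hω (ht ω hc)]

omit [Finite G] in
/-- A rational sum of roots is fixed by power maps. -/
theorem rat_sum_pow {n m : ℕ} (hn : n ≠ 0) (hm : m.Coprime n) (s : Multiset ℂ) (hs : ∀ x ∈ s, x ^ n = 1) {r : ℚ}
    (h : s.sum = (r : ℂ)) : (s.map (· ^ m)).sum = (r : ℂ) := by
  classical
  obtain ⟨σ, hσ⟩ := exists_galois_hom hn hm
  let t : Multiset (rootField n) :=
    s.attach.map fun x : {y // y ∈ s} => ⟨x.1, mem_rootField hn (hs x.1 x.2)⟩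
  have e : t.sum = algebraMap ℚ (rootField n) r := by
    apply (algebraMap (rootField n) ℂ).injective
    rw [map_multiset_sum, Multiset.map_map, ← IsScalarTower.algebraMap_apply, eq_ratCast, ← h]
    exact congrArg Multiset.sum (Multiset.attach_map_val s)
  have h1 := congrArg σ e
  rw [map_multiset_sum, Multiset.map_map, AlgHom.commutes, eq_ratCast] at h1
  rw [← h1]
  refine congrArg Multiset.sum ?_
  conv_lhs => rw [← Multiset.attach_map_val s, Multiset.map_map]
  exact (Multiset.map_congr rfl fun (x : {y // y ∈ s}) _ =>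
    hσ ⟨x.1, mem_rootField hn (hs x.1 x.2)⟩ (hs x.1 x.2)).symm

omit [Finite G] in
/-- When all power sums are rational the roots are permuted by power maps. -/
theorem map_pow_eq {n m : ℕ} (hn : n ≠ 0) (hm : m.Coprime n) (s : Multiset ℂ) (hs : ∀ x ∈ s, x ^ n = 1)
    (hrat : ∀ j : ℕ, ∃ r : ℚ, (s.map (· ^ j)).sum = (r : ℂ)) : s.map (· ^ m) = s := by
  refine eq_of_power_sums (Nat.pos_of_ne_zero hn) (fun x hx => ?_) hs fun j => ?_
  · obtain ⟨y, hy, rfl⟩ := Multiset.mem_map.1 hx
    rw [← pow_mul, mul_comm, pow_mul, hs y hy, one_pow]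
  · obtain ⟨r, hr⟩ := hrat j
    have h1 := rat_sum_pow hn hm (s.map (· ^ j)) (fun x hx => by
      obtain ⟨y, hy, rfl⟩ := Multiset.mem_map.1 hx
      rw [← pow_mul, mul_comm, pow_mul, hs y hy, one_pow]) hr
    rw [Multiset.map_map] at h1 ⊢
    rw [hr, ← h1]
    exact congrArg Multiset.sum (Multiset.map_congr rfl fun x _ => by
      show (x ^ m) ^ j = (x ^ j) ^ m
      rw [← pow_mul, ← pow_mul, mul_comm])

variable {d : ℕ} {R : Representation ℂ G (Fin d → ℂ)}

theorem roots_card {s : Multiset ℂ} {g : G} (h : ∀ m : ℕ, R.character (g ^ m) = (s.map (· ^ m)).sum) : s.card = d := by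
  have h0 := h 0
  simp only [pow_zero, Multiset.map_const', Multiset.sum_replicate, nsmul_eq_mul, mul_one, R.char_one,
    Module.finrank_fin_fun] at h0
  exact_mod_cast h0.symm

/-- With rational values at its powers an element of prime power order has small order. -/
theorem rational_order (hfaith : ∀ g : G, R.character g = (d : ℂ) → g = 1) {q k : ℕ} (hq : q.Prime) {g : G}
    (ho : orderOf g = q ^ (k + 1)) (hrat : ∀ j : ℕ, ∃ r : ℚ, R.character (g ^ j) = (r : ℂ)) :
    q ^ k * (q - 1) ≤ d ∧ (k = 0 → ∃ c : ℕ, 1 ≤ c ∧ (q - 1) * c ≤ d ∧ R.character g = (d : ℂ) - (q : ℂ) * c) := by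
  classical
  obtain ⟨s, hs, hsum, -⟩ := exists_roots_det R g
  rw [ho] at hs
  set n := q ^ (k + 1) with hn
  have hn0 : n ≠ 0 := pow_ne_zero _ hq.ne_zero
  haveI : NeZero n := ⟨hn0⟩
  have hcard := roots_card hsum
  obtain ⟨ω, hωs, hω⟩ : ∃ ω ∈ s, IsPrimitiveRoot ω n := by
    by_contra hno
    push Not at hno
    have h1 : ∀ x ∈ s, x ^ q ^ k = 1 := fun x hx => by
      by_contra hne
      refine hno x hx (IsPrimitiveRoot.mk_of_lt _ (Nat.pos_of_ne_zero hn0) (hs x hx) fun l hl0 hl hl1 => hne ?_)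
      have h2 : orderOf x ∣ q ^ (k + 1) := orderOf_dvd_of_pow_eq_one (hs x hx)
      obtain ⟨i, hi, hix⟩ := (Nat.dvd_prime_pow hq).1 h2
      rcases Nat.lt_or_ge i (k + 1) with h3 | h3
      · rw [← orderOf_dvd_iff_pow_eq_one, hix]
        exact pow_dvd_pow q (by omega)
      · exfalso
        have h4 := Nat.le_of_dvd hl0 (orderOf_dvd_of_pow_eq_one hl1)
        rw [hix, show i = k + 1 by omega] at h4
        exact absurd hl (not_lt.2 h4)
    have h3 : g ^ q ^ k = 1 := hfaith _ (by
      rw [hsum, Multiset.map_congr rfl fun x hx => h1 x hx, Multiset.map_const', Multiset.sum_replicate,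
        nsmul_eq_mul, mul_one, hcard])
    have h4 := Nat.le_of_dvd (pow_pos hq.pos _) (orderOf_dvd_of_pow_eq_one h3)
    rw [ho, hn] at h4
    exact absurd h4 (not_le.2 (Nat.pow_lt_pow_right hq.one_lt (Nat.lt_succ_self k)))
  have hrat' : ∀ j : ℕ, ∃ r : ℚ, (s.map (· ^ j)).sum = (r : ℂ) := fun j => by
    obtain ⟨r, hr⟩ := hrat j; exact ⟨r, (hsum j).symm.trans hr⟩
  have hpow : ∀ m : ℕ, m.Coprime n → s.count (ω ^ m) = s.count ω := fun m hm => by
    conv_lhs => rw [← map_pow_eq hn0 hm s hs hrat']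
    refine Multiset.count_map_eq_count _ _ (fun x hx y hy hxy => ?_) _ hωs
    obtain ⟨b, -, hb⟩ := Nat.exists_mul_mod_eq_one_of_coprime hm (Nat.one_lt_pow (Nat.succ_ne_zero k) hq.one_lt)
    have h5 : ∀ z ∈ s, (z ^ m) ^ b = z := fun z hz => by
      rw [← pow_mul, pow_eq_pow_mod _ (hs z hz), hb, pow_one]
    rw [← h5 x hx, ← h5 y hy]
    exact congrArg (· ^ b) hxy
  set T := ((range n).filter fun m => n.Coprime m).image (ω ^ ·) with hT
  have hTcard : T.card = q ^ k * (q - 1) := by
    rw [hT, card_image_of_injOn fun a ha b hb hab => hω.pow_inj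
      (mem_range.1 (mem_filter.1 ha).1) (mem_range.1 (mem_filter.1 hb).1) hab, ← Nat.totient_eq_card_coprime,
      hn, Nat.totient_prime_pow hq (Nat.succ_pos k)]
    rfl
  have hTc : ∀ y ∈ T, s.count y = s.count ω := by
    intro y hy
    obtain ⟨m, hm, rfl⟩ := mem_image.1 hy
    exact hpow m (mem_filter.1 hm).2.symm
  have hω1 : 1 ≤ s.count ω := Multiset.one_le_count_iff_mem.2 hωs
  have hle : T.card * s.count ω ≤ d := by
    have hTs : T ⊆ s.toFinset := fun y hy => Multiset.mem_toFinset.2 (Multiset.count_pos.1 (by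
      rw [hTc y hy]; exact hω1))
    rw [← hcard, ← Multiset.toFinset_sum_count_eq, ← smul_eq_mul, ← sum_const, ← Finset.sum_congr rfl hTc]
    exact Finset.sum_le_sum_of_subset hTs
  rw [hTcard] at hle
  refine ⟨le_trans (Nat.le_mul_of_pos_right _ hω1) hle, fun hk => ?_⟩
  subst hk
  rw [pow_zero, one_mul] at hle
  refine ⟨s.count ω, hω1, hle, ?_⟩
  have hnq : n = q := by rw [hn, zero_add, pow_one]
  obtain ⟨r, hr⟩ := hrat' 1
  have h1 := count_mul (Nat.pos_of_ne_zero hn0) hω.pow_eq_one s hs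
  rw [Finset.sum_congr (s₂ := range n) rfl fun j hj => show (s.map (· ^ j)).sum * (ω⁻¹) ^ j =
      (r : ℂ) * (ω⁻¹) ^ j + (if j = 0 then (d : ℂ) - r else 0) by
    rcases Nat.eq_zero_or_pos j with rfl | hj0
    · simp [hcard]
    · rw [if_neg hj0.ne', add_zero]
      congr 1
      have hcop : j.Coprime n := by
        rw [hnq]
        exact ((hq.coprime_iff_not_dvd).2 fun hd => absurd (Nat.le_of_dvd hj0 hd) (by
          have := mem_range.1 hj; omega)).symm
      have h2 := rat_sum_pow hn0 hcop s hs (r := r) (by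
        simpa using hr)
      exact h2,
    sum_add_distrib, ← mul_sum, Finset.sum_ite_eq', if_pos (mem_range.2 (Nat.pos_of_ne_zero hn0)),
    hω.inv.geom_sum_eq_zero (by rw [hnq]; exact hq.one_lt), mul_zero, zero_add] at h1
  have hg1 : R.character g = (r : ℂ) := by
    rw [← pow_one g, hsum, hr]
  rw [hg1, ← hnq]
  linear_combination -h1

end CfsgLib.LinearSmall.SevenFour
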