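import Cfsg.Agent.Lib.LinearSmall.SevenFour.Table
import Cfsg.Agent.Lib.LinearSmall.SevenFour.Roots

/-!
# Elements of two-power order in degree four
-/

namespace CfsgLib.LinearSmall.SevenFour

open Cfsg CfsgLib.CharTheory Finset
open scoped ComplexConjugate

set_option linter.unusedVariables false
set_option linter.style.haveILetI false
set_option linter.unusedSectionVars false

universe u

variable {ω : ℂ} (hω : IsPrimitiveRoot ω 16)

include hω in
theorem pow_eight : ω ^ 8 = -1 := by
  have h2 : IsPrimitiveRoot (ω ^ 8) 2 := hω.pow (by norm_num) (by norm_num)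
  exact h2.eq_neg_one_of_two_right

include hω in
theorem coord_eval (l : List ℕ) : (l.map (ω ^ ·)).sum = ∑ i ∈ range 8, (coord l i : ℂ) * ω ^ i := by
  induction l with
  | nil => simp [coord]
  | cons k l ih =>
    simp only [List.map_cons, List.sum_cons, coord, Int.cast_add, add_mul, sum_add_distrib, ih]
    congr 1
    rw [Finset.sum_eq_single (k % 8) (fun i _ hi => by rw [coordOne, if_neg (Ne.symm hi), Int.cast_zero, zero_mul])
      (fun hk => absurd (mem_range.2 (Nat.mod_lt k (by norm_num))) hk), coordOne, if_pos rfl]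
    rw [show ω ^ k = ω ^ (k % 16) from pow_eq_pow_mod k hω.pow_eq_one]
    split_ifs with h16
    · rw [Int.cast_one, one_mul, show k % 8 = k % 16 by omega]
    · rw [show k % 16 = 8 + k % 8 by omega, pow_add, pow_eight hω, Int.cast_neg, Int.cast_one]

include hω in
theorem coord_indep {c : ℕ → ℚ} (h : ∑ i ∈ range 8, (c i : ℂ) * ω ^ i = 0) {i : ℕ} (hi : i < 8) : c i = 0 := by
  have hdeg : (minpoly ℚ ω).natDegree = 8 := by
    rw [← Polynomial.cyclotomic_eq_minpoly_rat hω (by norm_num), Polynomial.natDegree_cyclotomic]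
    decide
  have hli := Fintype.linearIndependent_iff.1 (linearIndependent_pow (K := ℚ) ω) (fun j => c j) ?_ ⟨i, hdeg ▸ hi⟩
  · exact hli
  · rw [← h, Fin.sum_univ_eq_sum_range (fun j => c j • ω ^ j), hdeg]
    exact Finset.sum_congr rfl fun j _ => by rw [Rat.smul_def]

include hω in
theorem coord_eq_of_sum {l l' : List ℕ} (h : (l.map (ω ^ ·)).sum = (l'.map (ω ^ ·)).sum) : sameVec l l' = true := by
  rw [coord_eval hω, coord_eval hω, ← sub_eq_zero, ← sum_sub_distrib] at h
  refine List.all_eq_true.2 fun i hi => ?_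
  have h1 := coord_indep hω (c := fun i => ((coord l i - coord l' i : ℤ) : ℚ))
    (by rw [← h]; exact sum_congr rfl fun j _ => by push_cast; ring) (List.mem_range.1 hi)
  rw [beq_iff_eq]
  have h2 : coord l i - coord l' i = 0 := by exact_mod_cast h1
  omega

include hω in
theorem coord_of_rat {l : List ℕ} {r : ℤ} (h : (l.map (ω ^ ·)).sum = (r : ℂ)) :
    ratVec l = true ∧ coord l 0 = r := by
  rw [coord_eval hω] at h
  have key : ∀ i < 8, coord l i = if i = 0 then r else 0 := by
    intro i hi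
    have h1 := coord_indep hω (c := fun i => ((coord l i - if i = 0 then r else 0 : ℤ) : ℚ)) (by
      rw [sum_congr rfl fun j _ => show (((coord l j - if j = 0 then r else 0 : ℤ) : ℚ) : ℂ) * ω ^ j =
          (coord l j : ℂ) * ω ^ j - (if j = 0 then (r : ℂ) else 0) by
        rcases eq_or_ne j 0 with rfl | hj <;> simp [*],
        sum_sub_distrib, h, Finset.sum_ite_eq', if_pos (by simp), sub_self]) hi
    have h2 : (coord l i - if i = 0 then r else 0) = 0 := by exact_mod_cast h1
    omega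
  refine ⟨List.all_eq_true.2 fun i hi => ?_, by simpa using key 0 (by norm_num)⟩
  rw [beq_iff_eq, key (i + 1) (by have := List.mem_range.1 hi; omega), if_neg (Nat.succ_ne_zero i)]

variable {G : Type u} [Group G] [Finite G] {R : Representation ℂ G (Fin 4 → ℂ)}

/-- The hypotheses on the powers of an element. -/
structure Good (R : Representation ℂ G (Fin 4 → ℂ)) (g : G) : Prop where
  det : LinearMap.det (R g) = 1
  real : conj (R.character g) = R.character g
  sq : ∀ j : ℕ, ∃ r : ℤ, R.character (g ^ (2 * j)) = r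
  self_sq : ∃ r : ℤ, R.character g ^ 2 = r

include hω in
theorem exists_exponents {g : G} (hg : g ^ 16 = 1) (hG : Good R g) :
    ∃ a b c, a < 16 ∧ b < 16 ∧ c < 16 ∧ admissible a b c (fourth a b c) = true ∧
      (∀ j : ℕ, R.character (g ^ j) = ((powList j [a, b, c, fourth a b c]).map (ω ^ ·)).sum) ∧
      R.character g ^ 2 = (sqVal a b c (fourth a b c) : ℂ) ∧
      (R.character g ^ 2 - R.character (g * g)) / 2 = (extVal a b c (fourth a b c) : ℂ) := by
  obtain ⟨s, hs, hsum, hprod⟩ := exists_roots_det R g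
  have hcard := roots_card hsum
  obtain ⟨x₁, x₂, x₃, x₄, rfl⟩ := Multiset.card_eq_four.1 hcard
  have h16 : ∀ x ∈ ({x₁, x₂, x₃, x₄} : Multiset ℂ), x ^ 16 = 1 := fun x hx => by
    obtain ⟨k, hk⟩ := orderOf_dvd_of_pow_eq_one hg
    rw [hk, pow_mul, hs x hx, one_pow]
  obtain ⟨a, ha, rfl⟩ := hω.eq_pow_of_pow_eq_one (h16 x₁ (by simp))
  obtain ⟨b, hb, rfl⟩ := hω.eq_pow_of_pow_eq_one (h16 x₂ (by simp))
  obtain ⟨c, hc, rfl⟩ := hω.eq_pow_of_pow_eq_one (h16 x₃ (by simp))
  obtain ⟨d, hd, rfl⟩ := hω.eq_pow_of_pow_eq_one (h16 x₄ (by simp))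
  rw [hG.det] at hprod
  simp only [Multiset.insert_eq_cons, Multiset.prod_cons, Multiset.prod_singleton, ← pow_add] at hprod
  have hdvd := (hω.pow_eq_one_iff_dvd _).1 hprod
  obtain rfl : d = fourth a b c := by simp only [fourth]; omega
  have hP : ∀ j : ℕ, R.character (g ^ j) = ((powList j [a, b, c, fourth a b c]).map (ω ^ ·)).sum := fun j => by
    rw [hsum]
    simp [powList, ← pow_mul, mul_comm j]
  obtain ⟨r2, hr2⟩ := hG.sq 1
  obtain ⟨r, hr⟩ := hG.self_sq
  have h1 := hP 1
  have hl1 : powList 1 [a, b, c, fourth a b c] = [a, b, c, fourth a b c] := by simp [powList]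
  rw [pow_one, hl1] at h1
  rw [mul_one, hP] at hr2
  obtain ⟨e2, v2⟩ := coord_of_rat hω hr2
  have hX : ((pairList a b c (fourth a b c)).map (ω ^ ·)).sum =
      (R.character g ^ 2 - R.character (g * g)) / 2 := by
    rw [← pow_two g, h1, hP 2]
    simp only [pairList, powList, List.map_cons, List.map_nil, List.sum_cons, List.sum_nil, pow_add, two_mul]
    ring
  obtain ⟨rX, hrX⟩ : ∃ rX : ℤ, ((pairList a b c (fourth a b c)).map (ω ^ ·)).sum = rX := by
    have h2 : IsIntegral ℤ ((pairList a b c (fourth a b c)).map (ω ^ ·)).sum := by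
      refine list_sum_mem (S := integralClosure ℤ ℂ) fun y hy => ?_
      obtain ⟨i, -, rfl⟩ := List.mem_map.1 hy
      exact (hω.isIntegral (by norm_num)).pow i
    rw [hX, hr, ← pow_two g, hP 2, hr2] at h2
    rw [hX, hr, ← pow_two g, hP 2, hr2]
    have h3 : IsIntegral ℤ ((((r - r2 : ℤ) : ℚ) / 2 : ℚ)) := by
      rw [← isIntegral_algebraMap_iff (A := ℚ) (B := ℂ) (algebraMap ℚ ℂ).injective, eq_ratCast]
      push_cast
      exact h2
    obtain ⟨y, hy⟩ := IsIntegrallyClosed.isIntegral_iff.1 h3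
    refine ⟨y, ?_⟩
    have := congrArg (fun q : ℚ => (q : ℂ)) hy
    push_cast at this ⊢
    simp at this
    exact this.symm
  obtain ⟨eX, vX⟩ := coord_of_rat hω hrX
  refine ⟨a, b, c, ha, hb, hc, ?_, hP, ?_, ?_⟩
  · simp only [admissible, Bool.and_eq_true]
    refine ⟨⟨coord_eq_of_sum hω ?_, e2⟩, eX⟩
    rw [← h1, ← hP, ← hG.real]
    have hinv : ∀ k : ℕ, conj (ω ^ k) = ω ^ (15 * k) := fun k => by
      rw [map_pow, pow_mul, ← Complex.inv_eq_conj (hω.norm'_eq_one (by norm_num))]
      congr 1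
      exact inv_eq_of_mul_eq_one_right (by rw [← pow_succ', hω.pow_eq_one])
    rw [h1, hP]
    simp [powList, hinv]
  · rw [sqVal, vX, v2]
    push_cast
    have h5 := hX.symm.trans hrX
    rw [← pow_two g, hP 2, hr2] at h5
    linear_combination 2 * h5
  · rw [extVal, vX, ← hrX, hX]

theorem even_exponents {a b c : ℕ} (ha : a < 16) (hb : b < 16) (hc : c < 16)
    (h : admissible a b c (fourth a b c) = true) : claim a b c (fourth a b c) = true := by
  have := List.all_eq_true.1 (List.all_eq_true.1 (List.all_eq_true.1 table a (List.mem_range.2 ha)) b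
    (List.mem_range.2 hb)) c (List.mem_range.2 hc)
  simpa [h] using this

/-- No element has order sixteen. -/
theorem pow_eight_eq_one (hfaith : ∀ g : G, R.character g = 4 → g = 1) {g : G} (hg : g ^ 16 = 1) (hG : Good R g) :
    g ^ 8 = 1 := by
  obtain ⟨ω, hω⟩ : ∃ ω : ℂ, IsPrimitiveRoot ω 16 := ⟨_, Complex.isPrimitiveRoot_exp 16 (by norm_num)⟩
  obtain ⟨a, b, c, ha, hb, hc, hadm, hP, -⟩ := exists_exponents hω hg hG
  have hcl := even_exponents ha hb hc hadm
  simp only [claim, Bool.and_eq_true, List.all_eq_true] at hcl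
  obtain ⟨⟨hev, -⟩, -⟩ := hcl
  refine hfaith _ ?_
  rw [hP]
  have h1 : ∀ k ∈ [a, b, c, fourth a b c], ω ^ (8 * k) = 1 := fun k hk => by
    rw [hω.pow_eq_one_iff_dvd]
    have := hev k hk
    simp only [beq_iff_eq] at this
    omega
  simp only [powList, List.map_cons, List.map_nil, List.sum_cons, List.sum_nil]
  rw [h1 a (by simp), h1 b (by simp), h1 c (by simp), h1 (fourth a b c) (by simp)]
  norm_num

include hω in
theorem powOk_of {g : G} {l : List ℕ} {v : ℕ} {z : ℂ} (hP : ∀ j : ℕ, R.character (g ^ j) = ((powList j l).map (ω ^ ·)).sum)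
    (hlen : l.length = 4) (hv : v < 16) (hz : z = 4 * ω ^ v) (j : ℕ)
    (hyp : R.character (g ^ (2 * j)) = z → ∃ r : ℤ, (r = 4 ∨ r = -4) ∧ R.character (g ^ j) = r) :
    powOk v j l = true := by
  simp only [powOk, Bool.or_eq_true, Bool.not_eq_true']
  by_cases hall : (l.all fun k => 2 * j * k % 16 == v) = true
  · right
    obtain ⟨r, hr, hrj⟩ := hyp (by
      rw [hP, hz, List.map_congr_left (f := (ω ^ ·)) (g := fun _ => ω ^ v) (fun k hk => ?_)]
      · rw [powList, List.map_map, show ((fun _ : ℕ => ω ^ v) ∘ fun x : ℕ => 2 * j * x) = fun _ => ω ^ v from rfl,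
          List.map_const', List.sum_replicate, hlen, nsmul_eq_mul]
        norm_num
      · obtain ⟨k₀, hk₀, rfl⟩ := List.mem_map.1 hk
        have h1 := List.all_eq_true.1 hall k₀ hk₀
        rw [beq_iff_eq] at h1
        rw [pow_eq_pow_mod (2 * j * k₀) hω.pow_eq_one, h1])
    obtain ⟨e1, e2⟩ := coord_of_rat hω (by rw [← hP]; exact hrj)
    simp only [centVec, Bool.and_eq_true, Bool.or_eq_true, beq_iff_eq]
    exact ⟨e1, e2 ▸ hr⟩
  · left
    simpa using hall

/-- The first polynomial relation. -/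
theorem rel_first {g : G} (hg : g ^ 16 = 1) (hG : Good R g)
    (hno : ∀ j : ℕ, R.character (g ^ (2 * j)) = 4 → ∃ r : ℤ, (r = 4 ∨ r = -4) ∧ R.character (g ^ j) = r) :
    let z := R.character g ^ 2
    let X := (R.character g ^ 2 - R.character (g * g)) / 2
    z = 16 ∨ X * X - 2 * X - z = 0 := by
  obtain ⟨ω, hω⟩ : ∃ ω : ℂ, IsPrimitiveRoot ω 16 := ⟨_, Complex.isPrimitiveRoot_exp 16 (by norm_num)⟩
  obtain ⟨a, b, c, ha, hb, hc, hadm, hP, hz, hX⟩ := exists_exponents hω hg hG
  have hcl := even_exponents ha hb hc hadm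
  have hpk := fun j => powOk_of hω hP rfl (v := 0) (z := 4) (by norm_num) (by rw [pow_zero, mul_one]) j (hno j)
  simp only [claim, hpk, Bool.and_true, Bool.not_true, Bool.false_or, Bool.and_eq_true, Bool.or_eq_true,
    beq_iff_eq] at hcl
  intro z X
  rw [show z = _ from hz, show X = _ from hX]
  obtain ⟨⟨-, h1⟩, -⟩ := hcl
  rcases h1 with h | h
  · exact Or.inr (by exact_mod_cast h)
  · exact Or.inl (by rw [h]; norm_num)

/-- The second polynomial relation. -/
theorem rel_second {g : G} (hg : g ^ 16 = 1) (hG : Good R g)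
    (hno : ∀ j : ℕ, R.character (g ^ (2 * j)) = -4 → ∃ r : ℤ, (r = 4 ∨ r = -4) ∧ R.character (g ^ j) = r) :
    let z := R.character g ^ 2
    let X := (R.character g ^ 2 - R.character (g * g)) / 2
    z = 16 ∨ z * z - 6 * z + 2 * X + 4 = 0 := by
  obtain ⟨ω, hω⟩ : ∃ ω : ℂ, IsPrimitiveRoot ω 16 := ⟨_, Complex.isPrimitiveRoot_exp 16 (by norm_num)⟩
  obtain ⟨a, b, c, ha, hb, hc, hadm, hP, hz, hX⟩ := exists_exponents hω hg hG
  have hcl := even_exponents ha hb hc hadm
  have hpk := fun j => powOk_of hω hP rfl (v := 8) (z := -4) (by norm_num) (by rw [pow_eight hω]; norm_num) j (hno j)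
  simp only [claim, hpk, Bool.and_true, Bool.not_true, Bool.false_or, Bool.and_eq_true, Bool.or_eq_true,
    beq_iff_eq] at hcl
  intro z X
  rw [show z = _ from hz, show X = _ from hX]
  obtain ⟨-, h1⟩ := hcl
  rcases h1 with h | h
  · exact Or.inr (by exact_mod_cast h)
  · exact Or.inl (by rw [h]; norm_num)

end CfsgLib.LinearSmall.SevenFour
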