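import Cfsg.Agent.Lib.LinearSmall.SevenFour.Principal
import Cfsg.Agent.Lib.LinearSmall.SevenFour.TwoPart

/-!
# The order of the group
-/

namespace CfsgLib.LinearSmall.SevenFour

open Cfsg CfsgLib.Blocks CfsgLib.Blocks.DefectOne CfsgLib.CharTheory CfsgLib.CharTheory.SmallDegree
open CfsgLib.SmallSylow CfsgLib.FeitSmall Finset
open CfsgLib.LinearSmall.Nineteen (cen_one)
open scoped ComplexConjugate

set_option linter.unusedVariables false
set_option linter.style.haveILetI false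
set_option linter.unusedSectionVars false

universe u

variable {G : Type u} [Group G] [Fintype G] {P : Sylow 7 G} {x : G} {D : Data P x 3 2}
  {ζ : IrrCharacter G} {w : Subgroup.center G →* ℂ} {z₀ : Subgroup.center G}

/-- The sum of a character over a subgroup is a multiple of its order. -/
theorem sum_dvd {χ : G → ℂ} (hχ : IsCharacter G χ) (Q : Subgroup G) [Fintype Q] :
    ∃ k : ℕ, ∑ g : Q, χ g = (Nat.card Q : ℂ) * k := by
  obtain ⟨k, hk⟩ := classInner_char_nat (isCharacter_restrict hχ Q) isCharacter_one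
  refine ⟨k, ?_⟩
  rw [← hk, classInner, ← mul_assoc, mul_inv_cancel₀ (Nat.cast_ne_zero.2 Nat.card_pos.ne'), one_mul]
  exact Finset.sum_congr rfl fun g _ => by rw [map_one, mul_one]

theorem Two.sq_rat (T : Two ζ w z₀) {g : G} (hg : ¬ 7 ∣ orderOf g) : ∃ r : ℤ, (ζ : G → ℂ) (g * g) = r := by
  obtain ⟨a, ha⟩ := T.sqInt g hg
  obtain ⟨b, hb⟩ := T.extInt g
  refine ⟨a - 2 * b, ?_⟩
  rw [extF] at hb
  push_cast
  rw [← ha, ← hb]
  ring

theorem rep_of (hb : Base D ζ w) : ∃ R : Representation ℂ G (Fin 4 → ℂ), R.character = (ζ : G → ℂ) := by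
  obtain ⟨d, R, -, hR⟩ := ζ.2
  obtain rfl : d = 4 := by
    have h : (d : ℂ) = (ζ : G → ℂ) 1 := by rw [← hR, R.char_one, Module.finrank_fin_fun]
    rw [hb.deg] at h
    exact_mod_cast h
  exact ⟨R, hR⟩

theorem regular_of_pow {g : G} {q k : ℕ} (hq : q.Prime) (hq7 : q ≠ 7) (ho : orderOf g ∣ q ^ k) : ¬ 7 ∣ orderOf g :=
  fun h => hq7 ((Nat.prime_dvd_prime_iff_eq Nat.prime_seven hq).1 (Nat.prime_seven.dvd_of_dvd_pow (h.trans ho))).symm

/-- Elements of odd prime power order. -/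
theorem odd_element (hb : Base D ζ w) (T : Two ζ w z₀) {q : ℕ} (hq : q.Prime) (hq2 : q ≠ 2) (hq7 : q ≠ 7)
    {g : G} {m : ℕ} (ho : orderOf g ∣ q ^ m) (hg : g ≠ 1) :
    q ≤ 5 ∧ ∃ c : ℕ, 1 ≤ c ∧ (q - 1) * c ≤ 4 ∧ (ζ : G → ℂ) g = 4 - (q : ℂ) * c := by
  obtain ⟨R, hR⟩ := rep_of hb
  obtain ⟨i, hi, hgi⟩ := (Nat.dvd_prime_pow hq).1 ho
  obtain ⟨k, rfl⟩ : ∃ k, i = k + 1 := ⟨i - 1, by
    rcases Nat.eq_zero_or_pos i with rfl | h
    · exact absurd (orderOf_eq_one_iff.1 (by rw [hgi, pow_zero])) hg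
    · omega⟩
  obtain ⟨s, hs⟩ : Odd (orderOf g) := by rw [hgi]; exact (hq.odd_of_ne_two hq2).pow
  have hrat : ∀ j : ℕ, ∃ r : ℚ, R.character (g ^ j) = (r : ℂ) := by
    intro j
    obtain ⟨r, hr⟩ := T.sq_rat (g := (g ^ j) ^ (s + 1))
      (regular_of_pow hq hq7 (((orderOf_pow_dvd _).trans (orderOf_pow_dvd _)).trans ho))
    refine ⟨r, ?_⟩
    rw [hR, Rat.cast_intCast, ← hr, ← pow_add, ← pow_mul]
    congr 1
    rw [show j * (s + 1 + (s + 1)) = j + j * orderOf g by rw [hs]; ring, pow_add, mul_comm j (orderOf g), pow_mul,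
      pow_orderOf_eq_one, one_pow, mul_one]
  obtain ⟨h1, h2⟩ := rational_order (R := R) (fun y hy => hb.faith y (by
    rw [← hR, hy, hR, hb.deg]; norm_num)) hq hgi hrat
  have hk : k = 0 := by
    by_contra hk
    have h3 : q ≤ q ^ k := Nat.le_self_pow hk q
    have h4 : 3 * 2 ≤ q ^ k * (q - 1) := Nat.mul_le_mul (le_trans (by have := hq.two_le; omega) h3) (by
      have := hq.two_le; omega)
    omega
  obtain ⟨c, c1, c2, c3⟩ := h2 hk
  refine ⟨?_, c, c1, c2, by rw [← hR, c3]; norm_num⟩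
  have : (q - 1) * 1 ≤ (q - 1) * c := Nat.mul_le_mul_left _ c1
  omega

theorem card_three (hb : Base D ζ w) (T : Two ζ w z₀) [Fact (Nat.Prime 3)] (Q : Sylow 3 G) : Nat.card Q ∣ 18 := by
  classical
  letI : Fintype (Q : Subgroup G) := Fintype.ofFinite _
  have hval : ∀ g : (Q : Subgroup G), g ≠ 1 → (ζ : G → ℂ) g * (ζ : G → ℂ) g + (ζ : G → ℂ) g - 2 = 0 := by
    intro g hg
    obtain ⟨m, hm⟩ := Q.2 g
    obtain ⟨-, c, c1, c2, c3⟩ := odd_element hb T Nat.prime_three (by norm_num) (by norm_num) (g := (g : G)) (m := m)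
      (orderOf_dvd_of_pow_eq_one (congrArg Subtype.val hm)) (fun h => hg (Subtype.ext h))
    rw [c3]
    rcases (show c = 1 ∨ c = 2 by omega) with rfl | rfl <;> norm_num
  obtain ⟨a, ha⟩ := sum_dvd (isCharacter_mul (isCharacter_of_irr ζ.2) (isCharacter_of_irr ζ.2)) (Q : Subgroup G)
  obtain ⟨b, hb'⟩ := sum_dvd (isCharacter_of_irr ζ.2) (Q : Subgroup G)
  have hs : ∑ g : (Q : Subgroup G), ((ζ : G → ℂ) g * (ζ : G → ℂ) g + (ζ : G → ℂ) g - 2) = 18 := by
    rw [Finset.sum_eq_single (1 : (Q : Subgroup G)) (fun g _ hg => hval g hg) (fun h => absurd (mem_univ _) h),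
      Subgroup.coe_one, hb.deg]
    norm_num
  rw [sum_sub_distrib, sum_add_distrib, sum_const, card_univ, nsmul_eq_mul] at hs
  simp only [Pi.mul_apply] at ha
  rw [ha, hb', ← Nat.card_eq_fintype_card] at hs
  show Nat.card (Q : Subgroup G) ∣ 18
  rw [← Int.natCast_dvd_natCast]
  refine ⟨(a : ℤ) + b - 2, ?_⟩
  have : (((18 : ℕ) : ℤ) : ℂ) = (((Nat.card (Q : Subgroup G) : ℤ) * ((a : ℤ) + b - 2) : ℤ) : ℂ) := by
    push_cast; linear_combination -hs
  exact_mod_cast this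

theorem card_five (hb : Base D ζ w) (T : Two ζ w z₀) [Fact (Nat.Prime 5)] (Q : Sylow 5 G) : Nat.card Q ∣ 5 := by
  classical
  letI : Fintype (Q : Subgroup G) := Fintype.ofFinite _
  have hval : ∀ g : (Q : Subgroup G), g ≠ 1 → (ζ : G → ℂ) g + 1 = 0 := by
    intro g hg
    obtain ⟨m, hm⟩ := Q.2 g
    obtain ⟨-, c, c1, c2, c3⟩ := odd_element hb T Nat.prime_five (by norm_num) (by norm_num) (g := (g : G)) (m := m)
      (orderOf_dvd_of_pow_eq_one (congrArg Subtype.val hm)) (fun h => hg (Subtype.ext h))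
    rw [c3]
    obtain rfl : c = 1 := by omega
    norm_num
  obtain ⟨b, hb'⟩ := sum_dvd (isCharacter_of_irr ζ.2) (Q : Subgroup G)
  have hs : ∑ g : (Q : Subgroup G), ((ζ : G → ℂ) g + 1) = 5 := by
    rw [Finset.sum_eq_single (1 : (Q : Subgroup G)) (fun g _ hg => hval g hg) (fun h => absurd (mem_univ _) h),
      Subgroup.coe_one, hb.deg]
    norm_num
  rw [sum_add_distrib, sum_const, card_univ, nsmul_eq_mul, hb', ← Nat.card_eq_fintype_card] at hs
  show Nat.card (Q : Subgroup G) ∣ 5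
  rw [← Int.natCast_dvd_natCast]
  refine ⟨(b : ℤ) + 1, ?_⟩
  have : (((5 : ℕ) : ℤ) : ℂ) = (((Nat.card (Q : Subgroup G) : ℤ) * ((b : ℤ) + 1) : ℤ) : ℂ) := by
    push_cast; linear_combination -hs
  exact_mod_cast this

theorem Two.eq_pm (hb : Base D ζ w) (T : Two ζ w z₀) {g : G}
    (h : (ζ : G → ℂ) g ^ 2 = 16) : g = 1 ∨ g = z₀ := by
  have h' : ((ζ : G → ℂ) g - 4) * ((ζ : G → ℂ) g + 4) = 0 := by linear_combination h
  rcases mul_eq_zero.1 h' with h1 | h1
  · exact Or.inl (hb.faith g (by rw [hb.deg]; exact sub_eq_zero.1 h1))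
  · right
    have hz : (z₀ : G) * z₀ = 1 := by
      have := pow_card_eq_one' (x := z₀)
      rw [T.cardZ, pow_two] at this
      exact congrArg Subtype.val this
    have h2 : g * z₀ = 1 := hb.faith _ (by
      rw [hb.cen g z₀, T.wz, hb.deg]; linear_combination -h1)
    calc g = g * z₀ * z₀ := by rw [mul_assoc, hz, mul_one]
      _ = z₀ := by rw [h2, one_mul]

/-- The two parts. -/
theorem card_two (hb : Base D ζ w) (T : Two ζ w z₀) [Fact (Nat.Prime 2)] (S : Sylow 2 G) : Nat.card S ∣ 32 := by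
  classical
  letI : Fintype (S : Subgroup G) := Fintype.ofFinite _
  obtain ⟨R, hR⟩ := rep_of hb
  have hz : (z₀ : G) * z₀ = 1 := by
    have := pow_card_eq_one' (x := z₀)
    rw [T.cardZ, pow_two] at this
    exact congrArg Subtype.val this
  have hfaith : ∀ g : G, R.character g = 4 → g = 1 := fun g hg => hb.faith g (by rw [← hR, hg, hR, hb.deg])
  have hgood : ∀ (g : G) (m : ℕ), g ^ 2 ^ m = 1 → Good R g := fun g m hm => by
    have hreg : ∀ j : ℕ, ¬ 7 ∣ orderOf (g ^ j) := fun j => regular_of_pow Nat.prime_two (by norm_num)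
      ((orderOf_pow_dvd _).trans (orderOf_dvd_of_pow_eq_one hm))
    have hreg1 : ¬ 7 ∣ orderOf g := by simpa using hreg 1
    refine ⟨det_eq_one_of_perfect hb.perfect R g, by rw [hR]; exact T.real g hreg1, fun j => ?_,
      by rw [hR]; exact T.sqInt g hreg1⟩
    rw [hR, two_mul, pow_add]
    exact T.sq_rat (hreg j)
  have h16 : ∀ g : (S : Subgroup G), (g : G) ^ 16 = 1 := by
    intro g
    obtain ⟨m, hm⟩ := S.2 g
    have hm' : (g : G) ^ 2 ^ m = 1 := congrArg Subtype.val hm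
    induction m with
    | zero => rw [pow_zero, pow_one] at hm'; rw [hm', one_pow]
    | succ m ih =>
      by_cases h4 : m + 1 ≤ 4
      · obtain ⟨c, hc⟩ := Nat.le.dest h4
        rw [show 16 = 2 ^ (m + 1) * 2 ^ c by rw [← pow_add, hc]; norm_num, pow_mul, hm', one_pow]
      · obtain ⟨c, hc⟩ := Nat.le.dest (show 3 ≤ m by omega)
        have h1 : ((g : G) ^ 2 ^ (m - 3)) ^ 16 = 1 := by
          rw [← pow_mul, show 2 ^ (m - 3) * 16 = 2 ^ (m + 1) by
            rw [show (16 : ℕ) = 2 ^ 4 from rfl, ← pow_add]; congr 1; omega, hm']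
        have h8 := pow_eight_eq_one hfaith h1 (hgood _ 4 h1)
        rw [← pow_mul, show 2 ^ (m - 3) * 8 = 2 ^ m by
          rw [show (8 : ℕ) = 2 ^ 3 from rfl, ← pow_add]; congr 1; omega] at h8
        exact ih (Subtype.ext (by simpa using h8)) h8
  have hzS : (z₀ : G) ∈ (S : Subgroup G) := by
    have hp : IsPGroup 2 (Subgroup.center G) := IsPGroup.of_card (n := 1) (by rw [T.cardZ, pow_one])
    obtain ⟨Q, hQ⟩ := hp.exists_le_sylow
    obtain ⟨a, ha⟩ := MulAction.exists_smul_eq G Q S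
    rw [← ha, Sylow.coe_subgroup_smul]
    have h1 := Subgroup.smul_mem_pointwise_smul (z₀ : G) (MulAut.conj a) _ (hQ z₀.2)
    rwa [MulAut.smul_def, MulAut.conj_apply, Subgroup.mem_center_iff.1 z₀.2 a, mul_inv_cancel_right] at h1
  have hpm : ∀ g : G, g ∈ Subgroup.center G → ∃ r : ℤ, (r = 4 ∨ r = -4) ∧ R.character g = r := by
    intro g hg
    rw [hR, show g = ((⟨g, hg⟩ : Subgroup.center G) : G) from rfl, cen_one hb.cen, hb.deg]
    have h2 : (⟨g, hg⟩ : Subgroup.center G) ^ 2 = 1 := by rw [← T.cardZ]; exact pow_card_eq_one'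
    have h3 : w ⟨g, hg⟩ ^ 2 = 1 := by rw [← map_pow, h2, map_one]
    rcases sq_eq_one_iff.1 h3 with h | h <;> rw [h]
    · exact ⟨4, Or.inl rfl, by norm_num⟩
    · exact ⟨-4, Or.inr rfl, by norm_num⟩
  have hz1 : (ζ : G → ℂ) (z₀ : G) = -4 := by rw [cen_one hb.cen, T.wz, hb.deg]; norm_num
  have hne : (1 : (S : Subgroup G)) ≠ ⟨z₀, hzS⟩ := fun h =>
    T.ne (Subtype.ext (congrArg (fun y : (S : Subgroup G) => (y : G)) h).symm)
  have key : ∀ f : G → ℂ, (∀ g : (S : Subgroup G), (ζ : G → ℂ) g ^ 2 = 16 ∨ f g = 0) →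
      ∑ g : (S : Subgroup G), f g = f 1 + f z₀ := by
    intro f hf
    rw [← Finset.sum_subset (Finset.subset_univ {1, ⟨z₀, hzS⟩}) (fun g _ hg => ?_), Finset.sum_pair hne]
    · rfl
    · refine (hf g).resolve_left fun h => ?_
      rcases T.eq_pm hb h with h | h <;> simp only [mem_insert, mem_singleton, not_or] at hg
      · exact hg.1 (Subtype.ext h)
      · exact hg.2 (Subtype.ext h)
  have hζc := isCharacter_of_irr ζ.2
  obtain ⟨e2, he2⟩ := sum_dvd (isCharacter_mul (isCharacter_extF (ζ := ζ)) isCharacter_extF) (S : Subgroup G)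
  obtain ⟨e1, he1⟩ := sum_dvd (isCharacter_extF (ζ := ζ)) (S : Subgroup G)
  obtain ⟨s2, hs2⟩ := sum_dvd (isCharacter_mul hζc hζc) (S : Subgroup G)
  obtain ⟨s4, hs4⟩ := sum_dvd (isCharacter_mul (isCharacter_mul hζc hζc) (isCharacter_mul hζc hζc)) (S : Subgroup G)
  simp only [Pi.mul_apply] at he2 hs2 hs4
  show Nat.card (S : Subgroup G) ∣ 32
  by_cases hA : ∀ y : G, y * y = 1 → y ∈ Subgroup.center G
  · refine Nat.dvd_trans ?_ (show 16 ∣ 32 by norm_num)
    have hs := key (fun g => extF ζ g * extF ζ g - 2 * extF ζ g - (ζ : G → ℂ) g * (ζ : G → ℂ) g) fun g => by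
      obtain ⟨m, hm⟩ := S.2 g
      have h := rel_first (h16 g) (hgood _ m (congrArg Subtype.val hm)) fun j hj => hpm _ (hA _ (by
        rw [← pow_add, ← two_mul]; exact hfaith _ hj))
      rw [hR] at h
      simpa [extF, pow_two] using h
    rw [sum_sub_distrib, sum_sub_distrib, ← mul_sum, he2, he1, hs2] at hs
    have h1 : extF ζ (z₀ : G) = 6 := by rw [extF, hz1, hz, hb.deg]; norm_num
    rw [extF_one hb, hb.deg, h1, hz1] at hs
    rw [← Int.natCast_dvd_natCast]
    refine ⟨(e2 : ℤ) - 2 * e1 - s2, ?_⟩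
    have : (((16 : ℕ) : ℤ) : ℂ) = (((Nat.card (S : Subgroup G) : ℤ) * ((e2 : ℤ) - 2 * e1 - s2) : ℤ) : ℂ) := by
      push_cast; linear_combination -hs
    exact_mod_cast this
  · push Not at hA
    obtain ⟨t, ht, htc⟩ := hA
    have hno : ∀ y : G, R.character (y * y) ≠ -4 := by
      intro u hu
      have hu2 : u * u = z₀ := by
        rw [hR] at hu
        rcases T.eq_pm hb (g := u * u) (by rw [hu]; norm_num) with h | h
        · rw [h, hb.deg] at hu; norm_num at hu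
        · exact h
      have ht2 : t * t ∈ Subgroup.center G := by rw [ht]; exact one_mem _
      obtain ⟨r, hr, r1, r2, r4⟩ := hb.value (fun h => D.ne (hb.faith x h)) hb.cen htc ht2
        (by rw [show (⟨t * t, ht2⟩ : Subgroup.center G) = 1 from Subtype.ext ht, map_one])
        (N := 4) (by rw [hb.deg]; norm_num)
      obtain rfl : r = 0 := by omega
      have hu0 : (ζ : G → ℂ) u = 0 := by
        have hui : u⁻¹ = u * z₀ := inv_eq_of_mul_eq_one_right (by rw [← mul_assoc, hu2, hz])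
        have h1 : (ζ : G → ℂ) u⁻¹ = conj ((ζ : G → ℂ) u) := char_apply_inv hζc u
        rw [hui, hb.cen u z₀, T.wz, T.real u (not_dvd_of_square hb.hH D (hu2 ▸ z₀.2))] at h1
        linear_combination (-1/2 : ℂ) * h1
      have h := T.pair t u ht2 (hu2 ▸ z₀.2)
      rw [show extF ζ t = -2 by rw [extF, ht, hb.deg, hr]; norm_num,
        show symF ζ t = 2 by rw [symF, ht, hb.deg, hr]; norm_num,
        show extF ζ u = 2 by rw [extF, hu2, hz1, hu0]; norm_num,
        show symF ζ u = -2 by rw [symF, hu2, hz1, hu0]; norm_num, hr, hu0] at h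
      norm_num at h
    have hs := key (fun g => ((ζ : G → ℂ) g * (ζ : G → ℂ) g) * ((ζ : G → ℂ) g * (ζ : G → ℂ) g) -
        6 * ((ζ : G → ℂ) g * (ζ : G → ℂ) g) + 2 * extF ζ g + 4) fun g => by
      obtain ⟨m, hm⟩ := S.2 g
      have h := rel_second (h16 g) (hgood _ m (congrArg Subtype.val hm)) fun j hj => absurd (by
        rwa [two_mul, pow_add] at hj) (hno _)
      rw [hR] at h
      simpa [extF, pow_two] using h
    rw [sum_add_distrib, sum_add_distrib, sum_sub_distrib, sum_const, card_univ, nsmul_eq_mul, ← mul_sum, ← mul_sum,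
      he1, hs2, hs4, ← Nat.card_eq_fintype_card] at hs
    have h1 : extF ζ (z₀ : G) = 6 := by rw [extF, hz1, hz, hb.deg]; norm_num
    rw [extF_one hb, hb.deg, h1, hz1] at hs
    have h352 : Nat.card (S : Subgroup G) ∣ 352 := by
      rw [← Int.natCast_dvd_natCast]
      refine ⟨(s4 : ℤ) - 6 * s2 + 2 * e1 + 4, ?_⟩
      have : (((352 : ℕ) : ℤ) : ℂ) =
          (((Nat.card (S : Subgroup G) : ℤ) * ((s4 : ℤ) - 6 * s2 + 2 * e1 + 4) : ℤ) : ℂ) := by
        push_cast; linear_combination -hs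
      exact_mod_cast this
    obtain ⟨k, hk⟩ := IsPGroup.iff_card.1 S.2
    rw [hk] at h352 ⊢
    have hcop : Nat.Coprime (2 ^ k) 11 := Nat.Coprime.pow_left k (by norm_num)
    exact hcop.dvd_of_dvd_mul_right (show 2 ^ k ∣ 32 * 11 from h352)

end CfsgLib.LinearSmall.SevenFour
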