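import Cfsg.Agent.Lib.LinearSmall.SevenFour.Normal
import Cfsg.Agent.Lib.LinearSmall.Nineteen.Invol

/-!
# Values at elements with central square
-/

namespace CfsgLib.LinearSmall.SevenFour

open Cfsg CfsgLib.Blocks CfsgLib.Blocks.DefectOne CfsgLib.CharTheory CfsgLib.CharTheory.SmallDegree
open CfsgLib.SmallSylow CfsgLib.FeitSmall Finset
open scoped ComplexConjugate

set_option linter.unusedVariables false
set_option linter.style.haveILetI false
set_option linter.unusedSectionVars false

universe u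

variable {p : ℕ} [Fact p.Prime] {G : Type u} [Group G] [Fintype G] {P : Sylow p G} {x : G} {e t : ℕ}

/-- The value on an element acting as an involution with determinant one. -/
theorem value_invol (hG : commutator G = ⊤) (hH : Compl (P : Subgroup G) (Subgroup.center G))
    (D : Data P x e t) (ζ : IrrCharacter G)
    (hfaith : ∀ g : G, (ζ : G → ℂ) g = (ζ : G → ℂ) 1 → g = 1) (hdeg : charDegree (ζ : G → ℂ) + 1 < p)
    {χ : IrrCharacter G} (hχ : (χ : G → ℂ) x ≠ (χ : G → ℂ) 1) {W : Subgroup.center G →* ℂ}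
    (hW : HasCen (χ : G → ℂ) W) {g : G} (hg : g ∉ Subgroup.center G) (hg2 : g * g ∈ Subgroup.center G)
    (hW2 : W ⟨g * g, hg2⟩ = 1) {N : ℤ} (hN : (χ : G → ℂ) 1 = N) :
    ∃ r : ℤ, (χ : G → ℂ) g = r ∧ -N < r ∧ r < N ∧ (N - r) % 4 = 0 := by
  classical
  obtain ⟨d, R, hR, hRχ⟩ := χ.2
  have hd : (d : ℂ) = (χ : G → ℂ) 1 := by rw [← hRχ, R.char_one, Module.finrank_fin_fun]
  have hdN : (d : ℤ) = N := by exact_mod_cast hd.trans hN
  have hd0 : d ≠ 0 := fun h0 => irr_one_ne_zero χ (by rw [← hd, h0, Nat.cast_zero])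
  have hRx : R x ≠ 1 := fun h0 => hχ (by
    rw [← hRχ]; show LinearMap.trace ℂ _ (R x) = LinearMap.trace ℂ _ (R 1); rw [h0, map_one R])
  haveI := hR
  obtain ⟨c, hc⟩ := exists_scalar_of_mem_center R hg2
  have hcW : c = 1 := by
    have h1 : (χ : G → ℂ) (g * g) = (χ : G → ℂ) 1 := by
      rw [CfsgLib.LinearSmall.Nineteen.cen_one hW ⟨g * g, hg2⟩, hW2, one_mul]
    rw [← hRχ, Representation.character, Representation.character, hc, map_one R, map_smul,
      LinearMap.trace_id, LinearMap.trace_one, smul_eq_mul, Module.finrank_fin_fun] at h1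
    exact mul_right_cancel₀ (Nat.cast_ne_zero.2 hd0) (h1.trans (one_mul _).symm)
  set E : Module.End ℂ (Fin d → ℂ) := R g with hE
  have hinv : ∀ v, E (E v) = v := fun v => by
    rw [hE, ← Module.End.mul_apply, ← map_mul, hc, hcW, one_smul]; rfl
  set U := LinearMap.ker (E + LinearMap.id) with hU
  set k := Module.finrank ℂ U with hk
  have hdet := CfsgLib.Pyramidal.det_involution (two_ne_zero (α := ℂ)) E hinv
  rw [hE, det_eq_one_of_perfect hG R g] at hdet
  have hkev : Even k := by
    by_contra hodd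
    rw [(Nat.not_even_iff_odd.mp hodd).neg_one_pow] at hdet
    norm_num at hdet
  set Pm : Module.End ℂ (Fin d → ℂ) := (2 : ℂ)⁻¹ • (1 - E) with hPm
  have hproj : LinearMap.IsProj U Pm := by
    refine ⟨fun v => ?_, fun v hv => ?_⟩
    · rw [hU, LinearMap.mem_ker, hPm, LinearMap.add_apply, LinearMap.id_apply, LinearMap.smul_apply,
        map_smul, LinearMap.sub_apply, Module.End.one_apply, map_sub, hinv]
      module
    · rw [hU, LinearMap.mem_ker, LinearMap.add_apply, LinearMap.id_apply, add_eq_zero_iff_eq_neg] at hv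
      rw [hPm, LinearMap.smul_apply, LinearMap.sub_apply, Module.End.one_apply, hv]
      module
  have htr : (χ : G → ℂ) g = (d : ℂ) - 2 * k := by
    have h1 := hproj.trace
    rw [hPm, map_smul, map_sub, LinearMap.trace_one, Module.finrank_fin_fun, smul_eq_mul, ← hk] at h1
    rw [← hRχ]
    show LinearMap.trace ℂ _ E = _
    linear_combination (-2 : ℂ) * h1
  have hkle : k ≤ d := by
    have := Submodule.finrank_le U
    rwa [Module.finrank_fin_fun] at this
  have hk0 : k ≠ 0 := fun h0 => hg (central_of_scalar hH D hG ζ hfaith hdeg R hRx (c := 1) (by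
    rw [one_smul]
    refine LinearMap.ext fun v => ?_
    have hb : U = ⊥ := Submodule.finrank_eq_zero.1 h0
    have h1 : Pm v ∈ U := hproj.map_mem v
    rw [hb, Submodule.mem_bot, hPm, LinearMap.smul_apply, smul_eq_zero, LinearMap.sub_apply,
      sub_eq_zero] at h1
    exact (h1.resolve_left (inv_ne_zero two_ne_zero)).symm))
  have hkd : k ≠ d := fun h0 => hg (central_of_scalar hH D hG ζ hfaith hdeg R hRx (c := -1) (by
    have hb : U = ⊤ := Submodule.eq_top_of_finrank_eq (by rw [Module.finrank_fin_fun]; exact h0)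
    refine LinearMap.ext fun v => ?_
    have h1 : v ∈ U := hb ▸ Submodule.mem_top
    rw [hU, LinearMap.mem_ker, LinearMap.add_apply, LinearMap.id_apply, add_eq_zero_iff_eq_neg] at h1
    rw [LinearMap.smul_apply, LinearMap.id_apply, neg_one_smul]
    exact h1))
  refine ⟨(d : ℤ) - 2 * k, by rw [htr]; push_cast; ring, by omega, by omega, ?_⟩
  obtain ⟨i, hi⟩ := hkev
  omega

end CfsgLib.LinearSmall.SevenFour
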