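import Cfsg.Agent.Lib.LinearSmall.SevenFour.Three
import Cfsg.Agent.Lib.LinearSmall.SevenFour.Value
import Cfsg.Agent.Lib.LinearSmall.Nineteen.Principal

/-!
# The centre has order at most two
-/

namespace CfsgLib.LinearSmall.SevenFour

open Cfsg CfsgLib.Blocks CfsgLib.Blocks.DefectOne CfsgLib.CharTheory CfsgLib.CharTheory.SmallDegree
open CfsgLib.SmallSylow CfsgLib.FeitSmall Finset
open CfsgLib.LinearSmall.Nineteen (others mem_others others_reg cen_one linear_trivial exists_invol)
open scoped ComplexConjugate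

set_option linter.unusedVariables false
set_option linter.style.haveILetI false
set_option linter.unusedSectionVars false

universe u

variable {G : Type u} [Group G] [Fintype G] {P : Sylow 7 G} {x : G} {D : Data P x 3 2}
  {ζ : IrrCharacter G} {w W : Subgroup.center G →* ℂ} {F : ZMod 7 → IrrCharacter G} {n : ℕ} {ε : ℤ}

theorem Base.degree_lt (hb : Base D ζ w) : charDegree (ζ : G → ℂ) + 1 < 7 := by
  have h : (charDegree (ζ : G → ℂ) : ℂ) = ((4 : ℕ) : ℂ) := by rw [irr_charDegree_cast, hb.deg]; norm_num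
  rw [Nat.cast_inj.1 h]; norm_num

theorem Three.swap {A B C : IrrCharacter G} (h : Three x F W A B C) : Three x F W A C B where
  memB := h.memC
  memC := h.memB
  ne := ⟨h.ne.2.1, h.ne.1, h.ne.2.2.symm⟩
  signB := h.signC
  signC := h.signB
  all χ hχ h0 := (h.all χ hχ h0).imp_right Or.symm
  sum φ := by rw [h.sum φ]; ring

/-- The value at an element with trivial central square. -/
theorem Base.value (hb : Base D ζ w) {χ : IrrCharacter G} (hχ : (χ : G → ℂ) x ≠ (χ : G → ℂ) 1)
    (hW : HasCen (χ : G → ℂ) W) {g : G} (hg : g ∉ Subgroup.center G) (hg2 : g * g ∈ Subgroup.center G)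
    (hW2 : W ⟨g * g, hg2⟩ = 1) {N : ℤ} (hN : (χ : G → ℂ) 1 = N) :
    ∃ r : ℤ, (χ : G → ℂ) g = r ∧ -N < r ∧ r < N ∧ (N - r) % 4 = 0 :=
  value_invol hb.perfect hb.hH D ζ hb.faith hb.degree_lt hχ hW hg hg2 hW2 hN

/-- The degree of a signed character over a nontrivial central character. -/
theorem Base.signed (hb : Base D ζ w) (hW : W ≠ 1) (hF : Fam D W F n ε) {χ : IrrCharacter G}
    (hχ : χ ∈ others F W) (hs : sg x χ = 1 ∨ sg x χ = -1) :
    ∃ N : ℤ, (χ : G → ℂ) 1 = N ∧ (N - sg x χ) % 7 = 0 ∧ 6 ≤ N ∧ (χ : G → ℂ) x ≠ (χ : G → ℂ) 1 := by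
  obtain ⟨hx, M, -, h1⟩ := others_sg hF hχ
  have hN : (χ : G → ℂ) 1 = ((7 * (M : ℤ) + sg x χ : ℤ) : ℂ) := by rw [h1]; push_cast; ring
  refine ⟨_, hN, by omega, ?_⟩
  have hM : 1 ≤ M := by
    by_contra hM
    obtain rfl : M = 0 := by omega
    rcases hs with h | h
    · have hχ1 : χ = oneC G := linear_trivial hb.perfect (by rw [h1, h]; norm_num)
      exact hW ((mem_others.1 hχ).1.unique (hχ1 ▸ hasCen_oneC))
    · obtain ⟨d, R, -, hR⟩ := χ.2
      have hd : (d : ℂ) = (χ : G → ℂ) 1 := by rw [← hR, R.char_one, Module.finrank_fin_fun]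
      rw [hN, h] at hd
      have : ((d + 1 : ℕ) : ℂ) = 0 := by push_cast at hd ⊢; linear_combination hd
      exact absurd (Nat.cast_eq_zero.1 this) (by omega)
  refine ⟨by omega, fun h => ?_⟩
  rw [hx, hN] at h
  have h' : sg x χ = 7 * (M : ℤ) + sg x χ := by exact_mod_cast h
  omega

/-- A centre of order four is impossible. -/
theorem four_false (hb : Base D ζ w) (hW : w * w ≠ 1) (hF : Fam D (w * w) F n ε) : False := by
  classical
  have hZd : Nat.card (Subgroup.center G) ∣ 4 := by
    have h := card_center_dvd hb.perfect ζ hb.faith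
    rwa [Nat.cast_inj.1 (show (charDegree (ζ : G → ℂ) : ℂ) = ((4 : ℕ) : ℂ) by
      rw [irr_charDegree_cast, hb.deg]; norm_num)] at h
  have hcard : Nat.card (Subgroup.center G) = 2 ^ 2 := by
    rcases (Nat.dvd_prime_pow Nat.prime_two).1 (show Nat.card (Subgroup.center G) ∣ 2 ^ 2 from hZd) with ⟨k, hk, hkc⟩
    rcases (show k ≤ 1 ∨ k = 2 by omega) with hk1 | rfl
    · exfalso
      refine hW (MonoidHom.ext fun z => ?_)
      have h2 : z ^ 2 = 1 := by
        have h := pow_card_eq_one' (x := z)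
        rw [hkc] at h
        rcases (show k = 0 ∨ k = 1 by omega) with rfl | rfl
        · rw [pow_zero, pow_one] at h; rw [h, one_pow]
        · exact h
      show w z * w z = 1
      rw [← map_mul, ← pow_two, h2, map_one]
    · exact hkc
  obtain ⟨t, ht, ht1⟩ := exists_invol hb.perfect ζ hb.faith hcard le_rfl
  have ht2 : t * t ∈ Subgroup.center G := by rw [ht1]; exact one_mem _
  have hW2 : ∀ V : Subgroup.center G →* ℂ, V ⟨t * t, ht2⟩ = 1 := fun V => by
    rw [show (⟨t * t, ht2⟩ : Subgroup.center G) = 1 from Subtype.ext ht1, map_one]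
  have hxne : (ζ : G → ℂ) x ≠ (ζ : G → ℂ) 1 := fun h => D.ne (hb.faith x h)
  obtain ⟨r, hr, hr1, hr2, hr4⟩ := hb.value hxne hb.cen ht ht2 (hW2 w) (N := 4) (by rw [hb.deg]; norm_num)
  obtain rfl : r = 0 := by omega
  have hE : extF ζ t = -2 := by rw [extF, ht1, hb.deg, hr]; norm_num
  have hS : symF ζ t = 2 := by rw [symF, ht1, hb.deg, hr]; norm_num
  obtain ⟨rfl, X, hX, hXf, hXx, b, hb0, hcase⟩ := squares hb hF
  have hXs : sg x X = -1 := sg_eq (by rw [hXx]; norm_num)
  obtain ⟨B, C, T⟩ := exists_three hb.hH hF hX (by rw [hXs]; norm_num)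
  have hreg : ¬ 7 ∣ orderOf t := not_dvd_of_square hb.hH D ht2
  have e1 := others_reg hb.hH hF (sg x) (fun χ hχ => (others_sg hF hχ).1) (g := 1) (by simp)
  have et := others_reg hb.hH hF (sg x) (fun χ hχ => (others_sg hF hχ).1) hreg
  have ep := others_pair hb.hH hF ht2 ht2
  rw [T.sum] at e1 et ep
  rw [hF.agree 1 b one_ne_zero hb0 t hreg] at et ep
  rw [hF.agree 1 b one_ne_zero hb0 1 (by simp)] at e1 ep
  rw [hXs, hXf] at e1 et ep
  rw [extF_one hb] at e1 ep
  rw [hE] at et ep
  obtain ⟨hd1, -⟩ := fam_deg hF hb0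
  rcases hcase with ⟨rfl, hFb⟩ | ⟨rfl, Y, hY, hYx, hFY⟩
  · rw [hFb, symF_one hb] at e1 ep
    rw [hFb] at et
    rw [hS] at et ep
    obtain ⟨dB, hdB, hB7, hB6, hBx⟩ := hb.signed hW hF T.memB T.signB
    obtain ⟨dC, hdC, hC7, hC6, hCx⟩ := hb.signed hW hF T.memC T.signC
    obtain ⟨rB, hrB, -⟩ := hb.value hBx (mem_others.1 T.memB).1 ht ht2 (hW2 _) hdB
    obtain ⟨rC, hrC, -⟩ := hb.value hCx (mem_others.1 T.memC).1 ht ht2 (hW2 _) hdC
    rw [hdB, hdC] at e1 ep
    rw [hrB, hrC] at et ep
    have hBp : (0 : ℤ) < dB := by omega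
    have hCp : (0 : ℤ) < dC := by omega
    have q1 : sg x B * dB + sg x C * dC = 16 := by
      have : ((sg x B * dB + sg x C * dC : ℤ) : ℂ) = ((16 : ℤ) : ℂ) := by
        push_cast; push_cast at e1; linear_combination e1
      exact_mod_cast this
    have q2 : sg x B * rB + sg x C * rC = 0 := by
      have : ((sg x B * rB + sg x C * rC : ℤ) : ℂ) = ((0 : ℤ) : ℂ) := by
        push_cast; push_cast at et; linear_combination et
      exact_mod_cast this
    have q3 : 15 * (sg x B * rB * rB * dC + sg x C * rC * rC * dB) = 16 * (dB * dC) := by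
      have : ((15 * (sg x B * rB * rB * dC + sg x C * rC * rC * dB) : ℤ) : ℂ) = ((16 * (dB * dC) : ℤ) : ℂ) := by
        push_cast at ep ⊢
        field_simp [Int.cast_ne_zero.2 hBp.ne', Int.cast_ne_zero.2 hCp.ne'] at ep
        linear_combination (1/4 : ℂ) * ep
      exact_mod_cast this
    rcases T.signB with sB | sB <;> rcases T.signC with sC | sC <;> rw [sB, sC] at q1 q2 q3 <;> rw [sB] at hB7 <;>
      rw [sC] at hC7
    · obtain rfl : dB = 8 := by omega
      obtain rfl : dC = 8 := by omega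
      obtain rfl : rC = -rB := by linarith
      ring_nf at q3
      omega
    · obtain rfl : rC = rB := by linarith
      nlinarith [mul_self_nonneg rC, mul_pos hBp hCp]
    · obtain rfl : rC = rB := by linarith
      nlinarith [mul_self_nonneg rC, mul_pos hBp hCp]
    · omega
  · have hFx : (F b : G → ℂ) x ≠ (F b : G → ℂ) 1 := fun h => by
      obtain ⟨d, R, hR, hRχ⟩ := (F b).2
      have hker : R x = 1 := rep_apply_eq_one_of_char_eq R (by rw [hRχ]; exact h)
      have hm := (fam_deg hF hb0).2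
      have : CfsgLib.FeitSmall.mult x (F b : G → ℂ) (0 : ZMod 7) = (F b : G → ℂ) 1 := by
        rw [CfsgLib.FeitSmall.mult, Finset.sum_congr rfl fun k _ => show
          (F b : G → ℂ) (xp x k) * psi 7 (-(0 * k)) = (F b : G → ℂ) 1 by
            rw [zero_mul, neg_zero, AddChar.map_zero_eq_one, mul_one, ← hRχ]
            show LinearMap.trace ℂ _ (R (x ^ k.val)) = LinearMap.trace ℂ _ (R 1)
            rw [map_pow, hker, one_pow, map_one R], sum_const, card_univ, ZMod.card, nsmul_eq_mul]
        field_simp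
      rw [this, hd1] at hm
      norm_num at hm
    obtain ⟨r0, hr0, a1, a2, a4⟩ := hb.value hFx (hF.cen b hb0) ht ht2 (hW2 _) (N := 4) (by rw [hd1]; norm_num)
    obtain rfl : r0 = 0 := by omega
    have hYt : (Y : G → ℂ) t = 2 := by
      have h := congrFun hFY t
      rw [Pi.add_apply, hS, hr0, Int.cast_zero, zero_add] at h
      exact h.symm
    have hY1 : (Y : G → ℂ) 1 = 6 := by
      have h := congrFun hFY 1
      rw [Pi.add_apply, symF_one hb, hd1] at h
      push_cast at h
      linear_combination -h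
    have hYs : sg x Y = -1 := sg_eq (by rw [hYx]; norm_num)
    have hYX : Y ≠ X := fun h => by
      rw [h, hXf, hE] at hYt
      norm_num at hYt
    obtain ⟨C', T', hC'⟩ : ∃ C', Three x F (w * w) X Y C' ∧ True := by
      rcases T.all Y hY (by rw [hYs]; norm_num) with h | h | h
      · exact absurd h hYX
      · exact ⟨C, h ▸ T, trivial⟩
      · exact ⟨B, h ▸ T.swap, trivial⟩
    have e1' := others_reg hb.hH hF (sg x) (fun χ hχ => (others_sg hF hχ).1) (g := 1) (by simp)
    have et' := others_reg hb.hH hF (sg x) (fun χ hχ => (others_sg hF hχ).1) hreg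
    have ep' := others_pair hb.hH hF ht2 ht2
    rw [T'.sum] at e1' et' ep'
    rw [hF.agree 1 b one_ne_zero hb0 t hreg] at et' ep'
    rw [hF.agree 1 b one_ne_zero hb0 1 (by simp)] at e1' ep'
    rw [hXs, hXf, hYs] at e1' et' ep'
    rw [extF_one hb, hY1] at e1' ep'
    rw [hE, hYt, hr0] at et' ep'
    have hC0 : (C' : G → ℂ) t = 0 := by
      rcases T'.signC with h | h <;> rw [h] at et' <;> push_cast at et'
      · linear_combination et'
      · linear_combination -et'
    rw [hC0] at ep'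
    norm_num at ep'

end CfsgLib.LinearSmall.SevenFour
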