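import Cfsg.Agent.Lib.LinearSmall.SevenFour.Element
import Cfsg.Agent.Lib.SmallSimple.Order2520
import Cfsg.Agent.Lib.SmallRep.Equality

/-!
# Degree four at the prime seven
-/

namespace CfsgLib.LinearSmall.SevenFour

open Cfsg CfsgLib.Blocks CfsgLib.Blocks.DefectOne CfsgLib.CharTheory CfsgLib.CharTheory.SmallDegree
open CfsgLib.SmallSylow CfsgLib.FeitSmall Finset
open CfsgLib.LinearSmall.Nineteen (exists_square_central)
open scoped commutatorElement

set_option linter.unusedVariables false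
set_option linter.style.haveILetI false
set_option linter.unusedSectionVars false

universe u

variable {G : Type u} [Group G] [Fintype G] {P : Sylow 7 G} {x : G} {D : Data P x 3 2}
  {ζ : IrrCharacter G} {w : Subgroup.center G →* ℂ} {z₀ : Subgroup.center G}

theorem count_cases : ∀ n : Fin 241, (n : ℕ) ∣ 240 → 5 ∣ (n : ℕ) → (n : ℕ) % 7 = 1 → (n : ℕ) ≠ 1 →
    (n : ℕ) = 15 ∨ (n : ℕ) = 120 := by
  decide +kernel

/-- The order of the central quotient. -/
theorem card_quotient (hb : Base D ζ w) (T : Two ζ w z₀) (hnn : ¬ (P : Subgroup G).Normal) :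
    Nat.card (G ⧸ Subgroup.center G) = 2520 := by
  classical
  haveI : Fact (Nat.Prime 2) := ⟨Nat.prime_two⟩
  haveI : Fact (Nat.Prime 3) := ⟨Nat.prime_three⟩
  haveI : Fact (Nat.Prime 5) := ⟨Nat.prime_five⟩
  have hcen : Nat.card (Subgroup.centralizer ((P : Subgroup G) : Set G)) = 14 := by
    have h := hb.hH.card
    rw [show Nat.card (P : Subgroup G) = 7 from D.hP, T.cardZ] at h
    exact h.symm
  have hG : Nat.card G = 42 * Nat.card (Sylow 7 G) := by rw [card_eq_mul P, hcen, D.hq]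
  have hmod := card_sylow_modEq_one 7 G
  have hn1 : Nat.card (Sylow 7 G) ≠ 1 := fun h => hnn (by
    haveI : Subsingleton (Sylow 7 G) := (Nat.card_eq_one_iff_unique.1 h).1
    exact Sylow.normal_of_subsingleton P)
  have hbound : Nat.card G ∣ 10080 := by
    rw [Nat.dvd_iff_prime_pow_dvd_dvd]
    intro q k hq hd
    rcases Nat.eq_zero_or_pos k with rfl | hk
    · simp
    haveI := Fact.mk hq
    obtain ⟨H, hH⟩ := Sylow.exists_subgroup_card_pow_prime q hd
    obtain ⟨S, hS⟩ := (IsPGroup.of_card hH : IsPGroup q H).exists_le_sylow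
    have h1 : q ^ k ∣ Nat.card S := hH ▸ Subgroup.card_dvd_of_le hS
    by_cases h2 : q = 2
    · subst h2
      exact (h1.trans (card_two hb T S)).trans (by norm_num)
    by_cases h3 : q = 3
    · subst h3
      have h9 : 3 ^ k ∣ 9 := by
        have h18 := h1.trans (card_three hb T S)
        exact (Nat.Coprime.pow_left k (by norm_num : Nat.Coprime 3 2)).dvd_of_dvd_mul_right
          (show 3 ^ k ∣ 9 * 2 from h18)
      exact h9.trans (by norm_num)
    by_cases h5 : q = 5
    · subst h5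
      exact (h1.trans (card_five hb T S)).trans (by norm_num)
    by_cases h7 : q = 7
    · subst h7
      have hk1 : k = 1 := by
        by_contra hne
        exact D.sq_not_dvd ((pow_dvd_pow 7 (show 2 ≤ k by omega)).trans hd)
      subst hk1
      norm_num
    exfalso
    obtain ⟨g, hg⟩ := exists_prime_orderOf_dvd_card' q ((dvd_pow_self q hk.ne').trans hd)
    obtain ⟨hq5, -⟩ := odd_element hb T hq h2 h7 (g := g) (m := 1) (by rw [hg, pow_one]) (fun h => by
      rw [h, orderOf_one] at hg; exact hq.one_lt.ne hg)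
    have := hq.two_le
    interval_cases q <;> first | omega | (exact absurd hq (by norm_num))
  have h15 := T.dvd
  rw [hG] at hbound h15
  have hn : Nat.card (Sylow 7 G) ∣ 240 :=
    (Nat.mul_dvd_mul_iff_left (show 0 < 42 by norm_num)).1 (by simpa using hbound)
  have h5 : 5 ∣ Nat.card (Sylow 7 G) :=
    ((show Nat.Coprime 5 42 by norm_num).dvd_of_dvd_mul_left ((show 5 ∣ 15 by norm_num).trans h15))
  have hle := Nat.le_of_dvd (by norm_num) hn
  have hq : Nat.card G = Nat.card (G ⧸ Subgroup.center G) * 2 := by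
    rw [Subgroup.card_eq_card_quotient_mul_card_subgroup (Subgroup.center G), T.cardZ]
  rw [hG] at hq
  rcases (show Nat.card (Sylow 7 G) = 15 ∨ Nat.card (Sylow 7 G) = 120 from
    count_cases ⟨_, Nat.lt_succ_of_le hle⟩ hn h5 hmod hn1) with h | h <;> rw [h] at hq
  · exfalso
    obtain ⟨g, hg, hg2⟩ := exists_square_central hb.perfect (by rw [T.cardZ])
    have ho : orderOf (g : G ⧸ Subgroup.center G) = 2 := orderOf_eq_prime (by
      rw [pow_two, ← QuotientGroup.mk_mul]; exact (QuotientGroup.eq_one_iff _).2 hg2)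
      fun h => hg ((QuotientGroup.eq_one_iff g).1 h)
    have h2 := orderOf_dvd_natCard (g : G ⧸ Subgroup.center G)
    rw [ho, show Nat.card (G ⧸ Subgroup.center G) = 315 by omega] at h2
    norm_num at h2
  · omega

/-- A character of degree three identifies the group. -/
theorem psl_of_three (D : Data P x 3 2) (hH : Compl (P : Subgroup G) (Subgroup.center G)) (hG : commutator G = ⊤)
    (ζ : IrrCharacter G) (hfaith : ∀ g : G, (ζ : G → ℂ) g = (ζ : G → ℂ) 1 → g = 1)
    (hdeg : charDegree (ζ : G → ℂ) + 1 < 7) (χ : IrrCharacter G) (h3 : (χ : G → ℂ) 1 = 3) :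
    Nonempty ((G ⧸ Subgroup.center G) ≃* Matrix.ProjectiveSpecialLinearGroup (Fin 2) (ZMod 7)) := by
  classical
  obtain ⟨d, R, -, hRχ⟩ := χ.2
  obtain rfl : d = 3 := by
    have h : (d : ℂ) = (χ : G → ℂ) 1 := by rw [← hRχ, R.char_one, Module.finrank_fin_fun]
    rw [h3] at h
    exact_mod_cast h
  set K := (MonoidHom.toHomUnits R).ker
  have hKmem : ∀ g, g ∈ K ↔ R g = 1 := fun g => by
    rw [MonoidHom.mem_ker, ← Units.val_inj]; rfl
  have hxK : x ∉ K := by
    intro hx
    have htop := normal_eq_top D hH hG K hx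
    have hconst : ∀ g, (χ : G → ℂ) g = 3 := fun g => by
      rw [← hRχ, ← h3, ← hRχ]
      show LinearMap.trace ℂ _ (R g) = LinearMap.trace ℂ _ (R 1)
      rw [(hKmem g).1 (htop ▸ Subgroup.mem_top g), map_one R]
    have h := classInner_irr_self χ.2
    rw [classInner, Finset.sum_congr rfl fun g _ => show (χ : G → ℂ) g * starRingEnd ℂ ((χ : G → ℂ) g) = 9 by
      rw [hconst, show starRingEnd ℂ 3 = 3 from map_ofNat _ 3]; norm_num,
      sum_const, card_univ, nsmul_eq_mul, ← Nat.card_eq_fintype_card, ← mul_assoc,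
      inv_mul_cancel₀ (Nat.cast_ne_zero.2 Nat.card_pos.ne')] at h
    norm_num at h
  let R' : Representation ℂ (G ⧸ K) (Fin 3 → ℂ) :=
    (Units.coeHom _).comp (QuotientGroup.kerLift (MonoidHom.toHomUnits R))
  have hR' : Function.Injective R' := fun a b h => QuotientGroup.kerLift_injective _ (Units.ext h)
  have hxo : orderOf (x : G ⧸ K) = 7 := orderOf_eq_prime
    (by rw [← QuotientGroup.mk_pow, D.pow, QuotientGroup.mk_one]) fun h => hxK ((QuotientGroup.eq_one_iff x).1 h)
  have hsq : ¬ 7 ^ 2 ∣ Nat.card (G ⧸ K) := fun h => D.sq_not_dvd (h.trans (Subgroup.card_quotient_dvd_card K))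
  have habel : ∀ (a b : G), (a : G ⧸ K) * b = b * a → ⁅a, b⁆ ∈ K := fun a b h => by
    rw [← QuotientGroup.eq_one_iff (N := K), ← QuotientGroup.mk'_apply, map_commutatorElement,
      commutatorElement_eq_one_iff_mul_comm]
    exact h
  have hnab : ¬ ∀ a b : G, (a : G ⧸ K) * b = b * a := fun h => by
    have hle : commutator G ≤ K := by
      rw [commutator_def, Subgroup.commutator_le]
      exact fun a _ b _ => habel a b (h a b)
    rw [hG] at hle
    exact hxK (hle (Subgroup.mem_top x))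
  have hnn : ¬ (Subgroup.zpowers (x : G ⧸ K)).Normal := fun hn => by
    haveI := hn.comap (QuotientGroup.mk' K)
    have htop := normal_eq_top D hH hG ((Subgroup.zpowers (x : G ⧸ K)).comap (QuotientGroup.mk' K))
      (Subgroup.mem_zpowers _)
    refine hnab fun a b => ?_
    obtain ⟨i, hi⟩ := Subgroup.mem_zpowers_iff.1 (show (a : G ⧸ K) ∈ Subgroup.zpowers (x : G ⧸ K) from
      (htop ▸ Subgroup.mem_top a : a ∈ (Subgroup.zpowers (x : G ⧸ K)).comap (QuotientGroup.mk' K)))
    obtain ⟨j, hj⟩ := Subgroup.mem_zpowers_iff.1 (show (b : G ⧸ K) ∈ Subgroup.zpowers (x : G ⧸ K) from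
      (htop ▸ Subgroup.mem_top b : b ∈ (Subgroup.zpowers (x : G ⧸ K)).comap (QuotientGroup.mk' K)))
    rw [← hi, ← hj, ← zpow_add, ← zpow_add, add_comm]
  obtain ⟨e⟩ := CfsgLib.SmallRep.central_quotient_psl (p := 7) (f := 3) (by norm_num) hxo hsq R' hR' hnn
  set S := (Subgroup.center (G ⧸ K)).comap (QuotientGroup.mk' K) with hS
  haveI : S.Normal := Subgroup.Normal.comap inferInstance _
  have hSeq : S = Subgroup.center G := by
    refine le_antisymm ?_ fun g hg => ?_
    · refine central_of_normal hH D ζ hfaith hdeg S fun hd => hnab fun a b => ?_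
      have htop := normal_eq_top D hH hG S (mem_of_dvd D S hd)
      exact (Subgroup.mem_center_iff.1 (show (b : G ⧸ K) ∈ Subgroup.center (G ⧸ K) from
        (htop ▸ Subgroup.mem_top b : b ∈ S))) a
    · rw [hS, Subgroup.mem_comap, Subgroup.mem_center_iff]
      intro y
      obtain ⟨y, rfl⟩ := QuotientGroup.mk'_surjective K y
      rw [← map_mul, ← map_mul, Subgroup.mem_center_iff.1 hg y]
  set f := (QuotientGroup.mk' (Subgroup.center (G ⧸ K))).comp (QuotientGroup.mk' K)
  have hker : f.ker = Subgroup.center G := by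
    rw [← MonoidHom.comap_ker, QuotientGroup.ker_mk', ← hS, hSeq]
  exact ⟨((QuotientGroup.quotientMulEquivOfEq hker.symm).trans
    (QuotientGroup.quotientKerEquivOfSurjective f
      ((QuotientGroup.mk'_surjective _).comp (QuotientGroup.mk'_surjective _)))).trans e⟩

/-- The perfect case. -/
theorem perfect_case (D : Data P x 3 2) (hH : Compl (P : Subgroup G) (Subgroup.center G)) (hG : commutator G = ⊤)
    (hnn : ¬ (P : Subgroup G).Normal) (ζ : IrrCharacter G)
    (hfaith : ∀ g : G, (ζ : G → ℂ) g = (ζ : G → ℂ) 1 → g = 1) (hdeg : charDegree (ζ : G → ℂ) = 4)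
    (hS : ∃ a : ZMod 7, a ≠ 0 ∧ Shape x 3 (ζ : G → ℂ) a 1 (-1)) :
    Nonempty ((G ⧸ Subgroup.center G) ≃* Matrix.ProjectiveSpecialLinearGroup (Fin 2) (ZMod 7)) ∨
    Nonempty ((G ⧸ Subgroup.center G) ≃* ↥(alternatingGroup (Fin 7))) := by
  classical
  by_cases h3 : ∃ χ : IrrCharacter G, (χ : G → ℂ) 1 = 3
  · obtain ⟨χ, hχ⟩ := h3
    exact Or.inl (psl_of_three D hH hG ζ hfaith (by omega) χ hχ)
  push Not at h3
  letI : Fintype (P : Subgroup G) := Fintype.ofFinite _
  letI : Fintype (cen (P : Subgroup G)) := Fintype.ofFinite _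
  letI : Fintype (Subgroup.center G) := Fintype.ofFinite _
  obtain ⟨M, hM⟩ := exists_isPModular (Fact.out : Nat.Prime 7)
  obtain ⟨w, hw⟩ := exists_hasCen ζ
  have hb : Base D ζ w := ⟨hG, hH, hfaith, by rw [← irr_charDegree_cast, hdeg]; norm_num, hw, hS, h3⟩
  by_cases hW : w * w = 1
  · obtain ⟨z₀, T⟩ := exists_two hb hW hM
    haveI := simple_quotient hH D hG ζ hfaith (by omega)
    exact Or.inr (CfsgLib.Order2520.iso (card_quotient hb T hnn))
  · obtain ⟨F, n, ε, hF⟩ := exists_fam D hM hH (w * w)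
    exact (four_false hb hW hF).elim

theorem aux : ∀ (m : ℕ) (G : Type u) [Group G] [Fintype G], Nat.card G = m →
    ∀ (P : Sylow 7 G), Nat.card P = 7 → ¬ (P : Subgroup G).Normal → ∀ ζ : IrrCharacter G,
      (∀ g : G, (ζ : G → ℂ) g = (ζ : G → ℂ) 1 → g = 1) → charDegree (ζ : G → ℂ) = 4 →
    Nonempty ((G ⧸ Subgroup.center G) ≃* Matrix.ProjectiveSpecialLinearGroup (Fin 2) (ZMod 7)) ∨
    Nonempty ((G ⧸ Subgroup.center G) ≃* ↥(alternatingGroup (Fin 7))) := by
  intro m
  induction m using Nat.strong_induction_on with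
  | _ m IH =>
  intro G _ _ hm P hP hnn ζ hfaith hdeg
  classical
  obtain ⟨x, e, t, D⟩ := exists_data P hP
  letI : Fintype (P : Subgroup G) := Fintype.ofFinite _
  letI : Fintype (cen (P : Subgroup G)) := Fintype.ofFinite _
  letI : Fintype (Subgroup.center G) := Fintype.ofFinite _
  obtain ⟨M, hM⟩ := exists_isPModular (Fact.out : Nat.Prime 7)
  rcases structure_cases D hM ζ hfaith (by omega) (D.inf_center hnn) with
    ⟨a, ha, hA⟩ | ⟨ht, hH, a, ha, hS⟩
  · have := (caseA_degree D (by norm_num) ζ hfaith (by omega) hnn ha hA).2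
    omega
  obtain rfl : e = 3 := by have := hS.degree D.A ha; omega
  obtain rfl : t = 2 := by have := D.A.mul; omega
  by_cases hG : commutator G = ⊤
  · exact perfect_case D hH hG hnn ζ hfaith hdeg ⟨a, ha, hS⟩
  set L := commutator G with hL
  letI : Fintype L := Fintype.ofFinite _
  have hPL : (P : Subgroup G) ≤ L := D.le_commutator (by norm_num)
  obtain ⟨hirr, hnnL⟩ := restrict_irreducible D ζ hfaith hnn (by omega) (by norm_num) L hPL
  set P' : Sylow 7 L := P.subtype hPL with hP'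
  have hP'c : (P' : Subgroup L) = (P : Subgroup G).subgroupOf L := rfl
  have hcard : Nat.card P' = 7 := by
    show Nat.card (P' : Subgroup L) = 7
    rw [hP'c, Nat.card_congr (Subgroup.subgroupOfEquivOfLe hPL).toEquiv]
    exact D.hP
  rw [← hP'c] at hnnL
  let ζ' : IrrCharacter L := ⟨fun g : L => (ζ : G → ℂ) g, hirr⟩
  have hdeg' : charDegree (ζ' : L → ℂ) = 4 := by
    rw [← hdeg]
    apply Nat.cast_injective (R := ℂ)
    rw [irr_charDegree_cast, irr_charDegree_cast]
    rfl
  have hlt : Nat.card L < m := by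
    rw [← hm]
    rcases (Subgroup.card_le_card_group L).lt_or_eq with h | h
    · exact h
    · exact absurd (Subgroup.eq_top_of_card_eq L h) hG
  have hconcl := IH _ hlt L rfl P' hcard hnnL ζ' (fun g hg => Subtype.ext (hfaith g hg)) hdeg'
  -- the group is the product of `L` and the centre
  obtain ⟨x', e', t', D'⟩ := exists_data P' hcard
  letI : Fintype (P' : Subgroup L) := Fintype.ofFinite _
  letI : Fintype (cen (P' : Subgroup L)) := Fintype.ofFinite _
  letI : Fintype (Subgroup.center L) := Fintype.ofFinite _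
  obtain rfl : e' = 3 := by
    rcases structure_cases D' hM ζ' (fun g hg => Subtype.ext (hfaith g hg)) (by omega) (D'.inf_center hnnL) with
      ⟨a', ha', hA'⟩ | ⟨ht', hH', a', ha', hS'⟩
    · have := (caseA_degree D' (by norm_num) ζ' (fun g hg => Subtype.ext (hfaith g hg)) (by omega) hnnL ha' hA').2
      omega
    · have := hS'.degree D'.A ha'; omega
  have hx'P : (x' : G) ∈ (P : Subgroup G) := Subgroup.mem_subgroupOf.1 (hP'c ▸ D'.mem)
  obtain ⟨k, hk⟩ := D.exists_xp hx'P
  have hk0 : k ≠ 0 := fun h => D'.ne (Subtype.ext (by rw [hk, h, xp_zero]; rfl))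
  have hLZ : ∀ g : G, g ∈ L ⊔ Subgroup.center G := by
    intro g
    have hg : g ∈ Subgroup.normalizer ((P : Subgroup G) : Set G) ⊔ L :=
      (Sylow.normalizer_sup_eq_top' P (N := L) hPL).symm ▸ Subgroup.mem_top g
    obtain ⟨n, hn, l, hl, rfl⟩ := Subgroup.mem_sup_of_normal_right.1 hg
    refine mul_mem ?_ (Subgroup.mem_sup_left hl)
    obtain ⟨c, hc⟩ := D.exists_xp ((Subgroup.mem_normalizer_iff.1 hn x).1 D.mem)
    have hcr : c ∈ rts 7 3 := (D.exps c).2 ⟨n, hn, hc⟩
    obtain ⟨u, hu, hux⟩ := (D'.exps c).1 hcr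
    have h1 : (u : G) * xp x k * (u : G)⁻¹ = xp x (k * c) := by
      have h := congrArg (fun y : L => (y : G)) hux
      simp only [Subgroup.coe_mul, Subgroup.coe_inv] at h
      rw [← hk, h, xp_mul D.pow, ← hk]
      simp [xp]
    have h2 : n * xp x k * n⁻¹ = xp x (k * c) := by
      rw [xp, ← conj_pow, hc, mul_comm k c, xp_mul D.pow]
    have h3 : ((u : G)⁻¹ * n) * xp x k * ((u : G)⁻¹ * n)⁻¹ = xp x k := by
      rw [show (u : G)⁻¹ * n * xp x k * ((u : G)⁻¹ * n)⁻¹ = (u : G)⁻¹ * (n * xp x k * n⁻¹) * u by group, h2, ← h1]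
      group
    obtain ⟨q, hq, z, hz, hqz⟩ := hH.prod _ (D.setup.free (D.xp_mem k) (fun h => hk0 (D.xp_inj (h.trans xp_zero.symm)))
      (g := (u : G)⁻¹ * n) h3)
    rw [show n = (u : G) * (q * z) by rw [← hqz, mul_inv_cancel_left]]
    exact mul_mem (Subgroup.mem_sup_left u.2) (mul_mem (Subgroup.mem_sup_left (hPL hq)) (Subgroup.mem_sup_right hz))
  set φ : L →* G ⧸ Subgroup.center G := (QuotientGroup.mk' (Subgroup.center G)).comp L.subtype
  have hsurj : Function.Surjective φ := fun y => by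
    obtain ⟨g, rfl⟩ := QuotientGroup.mk'_surjective _ y
    obtain ⟨l, hl, z, hz, rfl⟩ := Subgroup.mem_sup_of_normal_right.1 (hLZ g)
    refine ⟨⟨l, hl⟩, ?_⟩
    show QuotientGroup.mk' _ l = QuotientGroup.mk' _ (l * z)
    rw [map_mul, show QuotientGroup.mk' (Subgroup.center G) z = 1 from (QuotientGroup.eq_one_iff z).2 hz, mul_one]
  have hker : φ.ker = Subgroup.center L := by
    ext l
    rw [MonoidHom.mem_ker]
    refine Iff.trans (QuotientGroup.eq_one_iff (l : G)) ⟨fun h => ?_, fun h => ?_⟩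
    · exact Subgroup.mem_center_iff.2 fun y => Subtype.ext (Subgroup.mem_center_iff.1 h y)
    · exact center_map_le ζ hfaith L hirr (Subgroup.mem_map_of_mem _ h)
  let E : (L ⧸ Subgroup.center L) ≃* (G ⧸ Subgroup.center G) :=
    (QuotientGroup.quotientMulEquivOfEq hker.symm).trans (QuotientGroup.quotientKerEquivOfSurjective φ hsurj)
  exact hconcl.imp (fun ⟨e⟩ => ⟨E.symm.trans e⟩) fun ⟨e⟩ => ⟨E.symm.trans e⟩

/-- Degree four at the prime seven: `PSL(2,7)` or `A₇`. -/
theorem quotient_center {G : Type u} [Group G] [Fintype G] (P : Sylow 7 G) (hP : Nat.card P = 7)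
    (hnn : ¬ (P : Subgroup G).Normal) (ζ : IrrCharacter G)
    (hfaith : ∀ g : G, (ζ : G → ℂ) g = (ζ : G → ℂ) 1 → g = 1) (hdeg : charDegree (ζ : G → ℂ) = 4) :
    Nonempty ((G ⧸ Subgroup.center G) ≃* Matrix.ProjectiveSpecialLinearGroup (Fin 2) (ZMod 7)) ∨
    Nonempty ((G ⧸ Subgroup.center G) ≃* ↥(alternatingGroup (Fin 7))) :=
  aux _ G rfl P hP hnn ζ hfaith hdeg

end CfsgLib.LinearSmall.SevenFour
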