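import Cfsg.Agent.Lib.FeitSmall.Main

/-!
# Normal subgroups of a perfect group with a Sylow subgroup of prime order
-/

namespace CfsgLib.LinearSmall.SevenFour

open Cfsg CfsgLib.Blocks CfsgLib.Blocks.DefectOne CfsgLib.CharTheory CfsgLib.CharTheory.SmallDegree
open CfsgLib.SmallSylow CfsgLib.FeitSmall Finset
open scoped commutatorElement Pointwise

set_option linter.unusedVariables false
set_option linter.style.haveILetI false
set_option linter.unusedSectionVars false

universe u

variable {p : ℕ} [Fact p.Prime] {G : Type u} [Group G] [Fintype G] {P : Sylow p G} {x : G} {e t : ℕ}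

/-- Elements of the normalizer commute modulo the centralizer. -/
theorem normalizer_comm (D : Data P x e t) (hH : Compl (P : Subgroup G) (Subgroup.center G)) {n m : G}
    (hn : n ∈ Subgroup.normalizer ((P : Subgroup G) : Set G)) (hm : m ∈ Subgroup.normalizer ((P : Subgroup G) : Set G)) :
    ⁅n, m⁆ ∈ (P : Subgroup G) ⊔ Subgroup.center G := by
  have key : ∀ k ∈ Subgroup.normalizer ((P : Subgroup G) : Set G), ∃ a : ZMod p, k * x * k⁻¹ = xp x a := fun k hk =>
    D.exists_xp ((Subgroup.mem_normalizer_iff.1 hk x).1 D.mem)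
  obtain ⟨a, ha⟩ := key n hn
  obtain ⟨b, hb⟩ := key m hm
  have hcomp : ∀ n m : G, ∀ a b : ZMod p, n * x * n⁻¹ = xp x a → m * x * m⁻¹ = xp x b →
      n * m * x * (n * m)⁻¹ = xp x (a * b) := fun n m a b ha hb => by
    rw [_root_.mul_inv_rev, show n * m * x * (m⁻¹ * n⁻¹) = n * (m * x * m⁻¹) * n⁻¹ by group, hb, xp,
      ← conj_pow, ha, ← xp_mul D.pow]
  have h1 := hcomp n m a b ha hb
  have h2 : m * n * x * (m * n)⁻¹ = xp x (a * b) := by rw [mul_comm a b]; exact hcomp m n b a hb ha
  have h3 : (m * n)⁻¹ * (n * m) * x * ((m * n)⁻¹ * (n * m))⁻¹ = x := by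
    rw [show (m * n)⁻¹ * (n * m) * x * ((m * n)⁻¹ * (n * m))⁻¹ =
      (m * n)⁻¹ * (n * m * x * (n * m)⁻¹) * (m * n) by group, h1, ← h2]
    group
  obtain ⟨q, hq, z, hz, hqz⟩ := hH.prod _ (D.setup.free D.mem D.ne (g := (m * n)⁻¹ * (n * m)) h3)
  have h4 : (m * n)⁻¹ * (n * m) ∈ (P : Subgroup G) ⊔ Subgroup.center G := by
    rw [hqz]; exact mul_mem (Subgroup.mem_sup_left hq) (Subgroup.mem_sup_right hz)
  have hN : Subgroup.normalizer ((P : Subgroup G) : Set G) ≤
      Subgroup.normalizer (((P : Subgroup G) ⊔ Subgroup.center G : Subgroup G) : Set G) := by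
    intro k hk
    rw [Subgroup.mem_normalizer_iff]
    intro y
    have aux : ∀ k ∈ Subgroup.normalizer ((P : Subgroup G) : Set G), ∀ y ∈ (P : Subgroup G) ⊔ Subgroup.center G,
        k * y * k⁻¹ ∈ (P : Subgroup G) ⊔ Subgroup.center G := by
      intro k hk y hy
      obtain ⟨u, hu, v, hv, rfl⟩ := Subgroup.mem_sup_of_normal_right.1 hy
      rw [show k * (u * v) * k⁻¹ = (k * u * k⁻¹) * (k * v * k⁻¹) by group,
        Subgroup.mem_center_iff.1 hv k, mul_inv_cancel_right]
      exact mul_mem (Subgroup.mem_sup_left ((Subgroup.mem_normalizer_iff.1 hk u).1 hu)) (Subgroup.mem_sup_right hv)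
    refine ⟨aux k hk y, fun hy => ?_⟩
    have := aux k⁻¹ (inv_mem hk) _ hy
    rwa [show k⁻¹ * (k * y * k⁻¹) * k⁻¹⁻¹ = y by group] at this
  have h5 := (Subgroup.mem_normalizer_iff.1 (hN (mul_mem hm hn)) _).1 h4
  rwa [show m * n * ((m * n)⁻¹ * (n * m)) * (m * n)⁻¹ = ⁅n, m⁆ by rw [commutatorElement_def]; group] at h5

/-- A normal subgroup containing the element of order `p` is everything. -/
theorem normal_eq_top (D : Data P x e t) (hH : Compl (P : Subgroup G) (Subgroup.center G))
    (hG : commutator G = ⊤) (K : Subgroup G) [K.Normal] (hx : x ∈ K) : K = ⊤ := by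
  have hPK : (P : Subgroup G) ≤ K := by rw [← D.zpowers, Subgroup.zpowers_le]; exact hx
  set K' := K ⊔ Subgroup.center G
  have hfr := Sylow.normalizer_sup_eq_top' P (N := K') (hPK.trans le_sup_left)
  have hPK' : (P : Subgroup G) ⊔ Subgroup.center G ≤ K' := sup_le_sup_right hPK _
  have htop : ⊤ ≤ K' := by
    rw [← hG, commutator_def, Subgroup.commutator_le]
    intro a _ b _
    have ha : a ∈ Subgroup.normalizer ((P : Subgroup G) : Set G) ⊔ K' := hfr ▸ Subgroup.mem_top a
    have hb : b ∈ Subgroup.normalizer ((P : Subgroup G) : Set G) ⊔ K' := hfr ▸ Subgroup.mem_top b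
    obtain ⟨n, hn, k, hk, rfl⟩ := Subgroup.mem_sup_of_normal_right.1 ha
    obtain ⟨m, hm, l, hl, rfl⟩ := Subgroup.mem_sup_of_normal_right.1 hb
    rw [← QuotientGroup.eq_one_iff (N := K'), ← QuotientGroup.mk'_apply, map_commutatorElement, map_mul, map_mul,
      show QuotientGroup.mk' K' k = 1 from (QuotientGroup.eq_one_iff k).2 hk,
      show QuotientGroup.mk' K' l = 1 from (QuotientGroup.eq_one_iff l).2 hl, mul_one, mul_one,
      ← map_commutatorElement]
    exact (QuotientGroup.eq_one_iff _).2 (hPK' (normalizer_comm D hH hn hm))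
  rw [eq_top_iff]
  intro g _
  have h2 : commutator G ≤ K := by
    rw [commutator_def, Subgroup.commutator_le]
    intro a _ b _
    obtain ⟨k, hk, z, hz, rfl⟩ := Subgroup.mem_sup_of_normal_right.1 (htop (Subgroup.mem_top a))
    obtain ⟨l, hl, z', hz', rfl⟩ := Subgroup.mem_sup_of_normal_right.1 (htop (Subgroup.mem_top b))
    rw [← QuotientGroup.eq_one_iff (N := K), ← QuotientGroup.mk'_apply, map_commutatorElement, map_mul, map_mul,
      show QuotientGroup.mk' K k = 1 from (QuotientGroup.eq_one_iff k).2 hk,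
      show QuotientGroup.mk' K l = 1 from (QuotientGroup.eq_one_iff l).2 hl, one_mul, one_mul,
      commutatorElement_eq_one_iff_mul_comm, ← map_mul, ← map_mul, Subgroup.mem_center_iff.1 hz' z]
  exact h2 (hG ▸ Subgroup.mem_top g)

variable (hH : Compl (P : Subgroup G) (Subgroup.center G))

include hH in
theorem not_dvd_center (D : Data P x e t) : ¬ p ∣ Nat.card (Subgroup.center G) := fun hd => by
  obtain ⟨y, hy⟩ := exists_prime_orderOf_dvd_card' p hd
  refine D.sq_not_dvd ?_
  have h2 : Nat.card P * Nat.card (Subgroup.center G) ∣ Nat.card G := by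
    show Nat.card (P : Subgroup G) * _ ∣ _
    rw [hH.card]; exact Subgroup.card_subgroup_dvd_card _
  rw [D.hP] at h2
  exact (by rw [pow_two]; exact mul_dvd_mul_left p hd : p ^ 2 ∣ p * Nat.card (Subgroup.center G)).trans h2

theorem mem_of_dvd (D : Data P x e t) (K : Subgroup G) [hK : K.Normal] (hd : p ∣ Nat.card K) : x ∈ K := by
  obtain ⟨y, hy⟩ := exists_prime_orderOf_dvd_card' p hd
  have hyG : orderOf (y : G) = p := by rw [Subgroup.orderOf_coe, hy]
  obtain ⟨Q, hQ⟩ := (IsPGroup.of_card (n := 1) (by rw [Nat.card_zpowers, hyG, pow_one]) :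
    IsPGroup p (Subgroup.zpowers (y : G))).exists_le_sylow
  obtain ⟨a, ha⟩ := MulAction.exists_smul_eq G Q P
  have h1 : a * (y : G) * a⁻¹ ∈ (P : Subgroup G) := by
    rw [← ha, Sylow.coe_subgroup_smul]
    exact Subgroup.smul_mem_pointwise_smul (y : G) (MulAut.conj a) _ (hQ (Subgroup.mem_zpowers _))
  have h2 : a * (y : G) * a⁻¹ ≠ 1 := fun h0 => by
    rw [conj_eq_one_iff] at h0
    rw [h0, orderOf_one] at hyG
    exact (Fact.out : p.Prime).one_lt.ne hyG
  have hle : (P : Subgroup G) ≤ K := by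
    rw [← (CfsgLib.Blocks.DefectOne.zpowers_eq D.setup D.hP h1 h2).1, Subgroup.zpowers_le]
    exact hK.conj_mem _ y.2 a
  exact hle D.mem

include hH in
/-- A normal subgroup of order prime to `p` is central. -/
theorem central_of_normal (D : Data P x e t) (ζ : IrrCharacter G)
    (hfaith : ∀ g : G, (ζ : G → ℂ) g = (ζ : G → ℂ) 1 → g = 1) (hdeg : charDegree (ζ : G → ℂ) + 1 < p)
    (K : Subgroup G) [hK : K.Normal] (hKp : ¬ p ∣ Nat.card K) : K ≤ Subgroup.center G := by
  obtain ⟨R0, hR0, -, -⟩ := exists_rep ζ hfaith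
  intro k hk
  have hc := CfsgLib.SmallRep.commute_of_small (R := R0) (p := p) hR0 D.pow hdeg _ K rfl hKp
    (fun y hy => hK.conj_mem y hy x) k hk
  obtain ⟨q, hq, z, hz, hqz⟩ := hH.prod k (D.setup.free D.mem D.ne (g := k) (by
    rw [← hc, mul_inv_cancel_right]))
  have hzc : Commute q z := Subgroup.mem_center_iff.1 hz q
  have h1 : (q * z) ^ Nat.card K = 1 := by
    rw [← hqz]; exact congrArg Subtype.val (pow_card_eq_one' (x := (⟨k, hk⟩ : K)))
  rw [hzc.mul_pow] at h1
  have h2 : q ^ Nat.card K ∈ (P : Subgroup G) ⊓ Subgroup.center G := by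
    refine Subgroup.mem_inf.2 ⟨pow_mem hq _, ?_⟩
    rw [eq_inv_of_mul_eq_one_left h1]
    exact inv_mem (pow_mem hz _)
  rw [hH.inf, Subgroup.mem_bot] at h2
  have h3 : q = 1 := by
    rw [← orderOf_eq_one_iff]
    exact Nat.eq_one_of_dvd_coprimes (((Fact.out : p.Prime).coprime_iff_not_dvd.2 hKp))
      (orderOf_dvd_of_pow_eq_one (pow_card_of_mem D.hP hq)) (orderOf_dvd_of_pow_eq_one h2)
  rw [hqz, h3, one_mul]; exact hz

include hH in
/-- The central quotient is simple. -/
theorem simple_quotient (D : Data P x e t) (hG : commutator G = ⊤) (ζ : IrrCharacter G)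
    (hfaith : ∀ g : G, (ζ : G → ℂ) g = (ζ : G → ℂ) 1 → g = 1) (hdeg : charDegree (ζ : G → ℂ) + 1 < p) :
    IsSimpleGroup (G ⧸ Subgroup.center G) := by
  haveI : Nontrivial (G ⧸ Subgroup.center G) := by
    refine ⟨⟨(x : G ⧸ Subgroup.center G), 1, fun h => D.ne ?_⟩⟩
    have h1 : x ∈ (P : Subgroup G) ⊓ Subgroup.center G :=
      Subgroup.mem_inf.2 ⟨D.mem, (QuotientGroup.eq_one_iff x).1 h⟩
    rwa [hH.inf, Subgroup.mem_bot] at h1
  refine ⟨fun N hN => ?_⟩
  set K := N.comap (QuotientGroup.mk' (Subgroup.center G)) with hK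
  haveI : K.Normal := hN.comap _
  have hmap : N = K.map (QuotientGroup.mk' (Subgroup.center G)) :=
    (Subgroup.map_comap_eq_self_of_surjective (QuotientGroup.mk'_surjective _) N).symm
  by_cases hd : p ∣ Nat.card K
  · right
    rw [hmap, normal_eq_top D hH hG K (mem_of_dvd D K hd),
      Subgroup.map_top_of_surjective _ (QuotientGroup.mk'_surjective _)]
  · left
    rw [hmap, Subgroup.map_eq_bot_iff, QuotientGroup.ker_mk']
    exact central_of_normal hH D ζ hfaith hdeg K hd

include hH in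
/-- A scalar element is central. -/
theorem central_of_scalar (D : Data P x e t) (hG : commutator G = ⊤) (ζ : IrrCharacter G)
    (hfaith : ∀ g : G, (ζ : G → ℂ) g = (ζ : G → ℂ) 1 → g = 1) (hdeg : charDegree (ζ : G → ℂ) + 1 < p)
    {d : ℕ} (R : Representation ℂ G (Fin d → ℂ)) (hRx : R x ≠ 1) {g : G} {c : ℂ}
    (hg : R g = c • LinearMap.id) : g ∈ Subgroup.center G := by
  set S : Subgroup G :=
    Subgroup.comap (MonoidHom.toHomUnits R) (Subgroup.center (Module.End ℂ (Fin d → ℂ))ˣ) with hS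
  haveI : S.Normal := Subgroup.Normal.comap inferInstance _
  have hgS : g ∈ S := by
    rw [hS, Subgroup.mem_comap, Subgroup.mem_center_iff]
    intro U
    refine Units.ext ?_
    show (U : Module.End ℂ (Fin d → ℂ)) * R g = R g * (U : Module.End ℂ (Fin d → ℂ))
    rw [hg, ← Module.End.one_eq_id, mul_smul_comm, smul_mul_assoc, mul_one, one_mul]
  by_contra hgc
  have hdv : p ∣ Nat.card S := by
    by_contra hd
    exact hgc (central_of_normal hH D ζ hfaith hdeg S hd hgS)
  have htop := normal_eq_top D hH hG S (mem_of_dvd D S hdv)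
  -- then the image is abelian
  have hker : commutator G ≤ (MonoidHom.toHomUnits R).ker := by
    rw [commutator_def, Subgroup.commutator_le]
    intro a _ b _
    rw [MonoidHom.mem_ker, map_commutatorElement, commutatorElement_eq_one_iff_mul_comm]
    have hb : b ∈ S := htop ▸ Subgroup.mem_top b
    rw [hS, Subgroup.mem_comap, Subgroup.mem_center_iff] at hb
    exact hb _
  rw [hG] at hker
  exact hRx (congrArg Units.val (MonoidHom.mem_ker.1 (hker (Subgroup.mem_top x))))

end CfsgLib.LinearSmall.SevenFour
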