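import Cfsg.Agent.Lib.LinearSmall.SevenFour.Four
import Cfsg.Agent.Lib.CharTheory.PowerMap
import Cfsg.Agent.Lib.CharTheory.Galois
import Cfsg.Agent.Lib.CharTheory.ThreeDegrees

/-!
# The principal characters when the centre has order two
-/

namespace CfsgLib.LinearSmall.SevenFour

open Cfsg CfsgLib.Blocks CfsgLib.Blocks.DefectOne CfsgLib.CharTheory CfsgLib.CharTheory.SmallDegree
open CfsgLib.SmallSylow CfsgLib.FeitSmall Finset
open CfsgLib.LinearSmall.Nineteen (others mem_others others_shape others_reg cen_one linear_trivial)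
open scoped ComplexConjugate

set_option linter.unusedVariables false
set_option linter.style.haveILetI false
set_option linter.unusedSectionVars false

universe u

variable {G : Type u} [Group G] [Fintype G] {P : Sylow 7 G} {x : G} {D : Data P x 3 2}
  {ζ : IrrCharacter G} {w W : Subgroup.center G →* ℂ} {F : ZMod 7 → IrrCharacter G} {n : ℕ} {ε : ℤ}

theorem others_xp (hF : Fam D W F n ε) {χ : IrrCharacter G} (hχ : χ ∈ others F W) {k : ZMod 7} (hk : k ≠ 0) :
    (χ : G → ℂ) (xp x k) = (χ : G → ℂ) x := by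
  obtain ⟨σ, M, h0, hm, hσ, -⟩ := others_shape hF hχ
  rw [hσ, mult_expand (χ : G → ℂ), Finset.sum_congr rfl fun z _ => show
      CfsgLib.FeitSmall.mult x (χ : G → ℂ) z * psi 7 (z * k) =
      (M : ℂ) * psi 7 (z * k) + (if z = 0 then (σ : ℂ) else 0) by
    rcases eq_or_ne z 0 with rfl | hz
    · rw [h0, if_pos rfl, zero_mul, AddChar.map_zero_eq_one, mul_one, mul_one]
    · rw [hm z hz, if_neg hz, add_zero],
    sum_add_distrib, ← mul_sum, sum_psi_mul, if_neg hk, mul_zero, zero_add, Finset.sum_ite_eq', if_pos (mem_univ _)]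

/-- A signed character over the trivial central character with its own degree has integral values. -/
theorem integral_values (hF : Fam D 1 F n ε) {A B C : IrrCharacter G} (T : Three x F 1 A B C)
    (hA : A ∈ others F 1) {χ : IrrCharacter G} (hχ : χ ∈ others F 1) (hs : sg x χ ≠ 0)
    (hfam : (χ : G → ℂ) 1 ≠ (F 1 : G → ℂ) 1)
    (hu : ∀ ψ, ψ = A ∨ ψ = B ∨ ψ = C → sg x ψ = sg x χ → (ψ : G → ℂ) 1 = (χ : G → ℂ) 1 → ψ = χ) (g : G) :
    ∃ r : ℤ, (χ : G → ℂ) g = r := by
  have hinv : ∀ m : ℕ, m.Coprime (Nat.card G) → (χ : G → ℂ) (g ^ m) = (χ : G → ℂ) g := by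
    intro m hm
    set ψ : IrrCharacter G := ⟨fun y => (χ : G → ℂ) (y ^ m), isIrrCharacter_pow χ.2 hm⟩
    have hψcen : HasCen (ψ : G → ℂ) (1 : Subgroup.center G →* ℂ) := fun y z => by
      show (χ : G → ℂ) ((y * z) ^ m) = 1 * (χ : G → ℂ) (y ^ m)
      rw [(show Commute y (z : G) from Subgroup.mem_center_iff.1 z.2 y).mul_pow, ← Subgroup.coe_pow,
        (mem_others.1 hχ).1]
      rfl
    have hψ1 : (ψ : G → ℂ) 1 = (χ : G → ℂ) 1 := by show (χ : G → ℂ) (1 ^ m) = _; rw [one_pow]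
    have hψ : ψ ∈ others F 1 := mem_others.2 ⟨hψcen, fun a ha h => hfam (by
      rw [← hψ1, h, hF.agree a 1 ha one_ne_zero 1 (by simp)])⟩
    have hm7 : (m : ZMod 7) ≠ 0 := fun h0 => by
      have hd : 7 ∣ m := (ZMod.natCast_eq_zero_iff m 7).1 h0
      have h7 : 7 ∣ Nat.card G := D.order ▸ orderOf_dvd_natCard x
      have := Nat.eq_one_of_dvd_coprimes hm hd h7
      norm_num at this
    have hψs : sg x ψ = sg x χ := sg_eq (by
      show (χ : G → ℂ) (x ^ m) = _
      rw [← xp_natCast D.pow, others_xp hF hχ hm7]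
      exact (others_sg hF hχ).1)
    have := hu ψ (T.all ψ hψ (by rw [hψs]; exact hs)) hψs hψ1
    exact congrFun (congrArg Subtype.val this) g
  obtain ⟨q, hq⟩ := rational_of_pow_invariant (isCharacter_of_irr χ.2) g hinv
  obtain ⟨d, R, -, hR⟩ := χ.2
  have hint : IsIntegral ℤ ((χ : G → ℂ) g) := by rw [← hR]; exact isIntegral_character R g
  rw [hq, ← eq_ratCast (algebraMap ℚ ℂ), isIntegral_algebraMap_iff (algebraMap ℚ ℂ).injective] at hint
  obtain ⟨r, hr⟩ := IsIntegrallyClosed.isIntegral_iff.1 hint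
  exact ⟨r, by rw [hq, ← hr]; simp⟩

/-- What is known when the centre has order two. -/
structure Two (ζ : IrrCharacter G) (w : Subgroup.center G →* ℂ) (z₀ : Subgroup.center G) : Prop where
  cardZ : Nat.card (Subgroup.center G) = 2
  ne : z₀ ≠ 1
  wz : w z₀ = -1
  dvd : 15 ∣ Nat.card G
  real : ∀ g : G, ¬ 7 ∣ orderOf g → conj ((ζ : G → ℂ) g) = (ζ : G → ℂ) g
  extInt : ∀ g : G, ∃ r : ℤ, extF ζ g = r
  sqInt : ∀ g : G, ¬ 7 ∣ orderOf g → ∃ r : ℤ, (ζ : G → ℂ) g ^ 2 = r
  pair : ∀ y z : G, y * y ∈ Subgroup.center G → z * z ∈ Subgroup.center G →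
    1 - extF ζ y * extF ζ z / 6 + ((ζ : G → ℂ) y * conj ((ζ : G → ℂ) y) - 1) *
      ((ζ : G → ℂ) z * conj ((ζ : G → ℂ) z) - 1) / 15 = symF ζ y * symF ζ z / 10

theorem classInner_mul_swap (ζ : IrrCharacter G) :
    classInner (fun g => (ζ : G → ℂ) g * conj ((ζ : G → ℂ) g)) (fun g => (ζ : G → ℂ) g * conj ((ζ : G → ℂ) g)) =
      classInner (fun g => (ζ : G → ℂ) g ^ 2) (fun g => (ζ : G → ℂ) g ^ 2) := by
  rw [classInner, classInner]
  congr 1
  refine Finset.sum_congr rfl fun g _ => ?_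
  simp only [map_mul, map_pow, Complex.conj_conj]
  ring

/-- The structure of the principal characters. -/
theorem exists_two (hb : Base D ζ w) (hW : w * w = 1) [Fintype (P : Subgroup G)] [Fintype (cen (P : Subgroup G))]
    [Fintype (Subgroup.center G)] {M : Ideal AlgInt} (hM : IsPModular 7 M) : ∃ z₀, Two ζ w z₀ := by
  classical
  obtain ⟨F, n, ε, hF⟩ := exists_fam D hM hb.hH (w * w)
  obtain ⟨rfl, X, hX, hXf, hXx, b, hb0, hcase⟩ := squares hb hF
  rw [hW] at hF hX hcase
  have hXs : sg x X = -1 := sg_eq (by rw [hXx]; norm_num)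
  obtain ⟨hd1, hd0⟩ := fam_deg hF hb0
  have hF1 : (F 1 : G → ℂ) 1 = 7 + 3 * (ε : ℂ) := by rw [(fam_deg hF one_ne_zero).1]; norm_num
  have hone : oneC G ∈ others F 1 := mem_others.2 ⟨hasCen_oneC, fun a ha h => by
    have h1 := (fam_deg hF ha).1
    rw [← h] at h1
    change (1 : ℂ) = _ at h1
    rcases hF.sgn with rfl | rfl <;> norm_num at h1⟩
  have hone_s : sg x (oneC G) = 1 := sg_eq (by show (1 : ℂ) = _; norm_num)
  obtain ⟨B₀, C₀, T₀⟩ := exists_three hb.hH hF hone (by rw [hone_s]; norm_num)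
  obtain ⟨C, T⟩ : ∃ C, Three x F 1 (oneC G) X C := by
    rcases T₀.all X hX (by rw [hXs]; norm_num) with h | h | h
    · rw [h, hone_s] at hXs; norm_num at hXs
    · exact ⟨C₀, h ▸ T₀⟩
    · exact ⟨B₀, h ▸ T₀.swap⟩
  have hX1 : (X : G → ℂ) 1 = 6 := by rw [hXf, extF_one hb]
  have hsum : ∀ g : G, ¬ 7 ∣ orderOf g →
      1 - (X : G → ℂ) g + (sg x C : ℂ) * (C : G → ℂ) g = (ε : ℂ) * (F b : G → ℂ) g := by
    intro g hg
    have h := others_reg hb.hH hF (sg x) (fun χ hχ => (others_sg hF hχ).1) hg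
    rw [T.sum, hone_s, hXs, hF.agree 1 b one_ne_zero hb0 g hg] at h
    change ((1 : ℤ) : ℂ) * 1 + _ = _ at h
    push_cast at h
    linear_combination h
  obtain ⟨rfl, hFb⟩ : ε = 1 ∧ (F b : G → ℂ) = symF ζ := by
    rcases hcase with h | ⟨hε, -⟩
    · exact h
    · exfalso
      subst hε
      have h := hsum 1 (by simp)
      rw [hX1, hd1] at h
      push_cast at h
      obtain ⟨hx, M', -, hM'⟩ := others_sg hF T.memC
      rcases T.signC with hs | hs
      · rw [hs] at h
        push_cast at h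
        exact T.ne.2.1 (linear_trivial hb.perfect (χ := C) (by linear_combination h)).symm
      · rw [hs] at h hM'
        rw [hM'] at h
        push_cast at h
        have : ((7 * M' : ℕ) : ℂ) = 0 := by push_cast; linear_combination -h
        obtain rfl : M' = 0 := by have := Nat.cast_eq_zero.1 this; omega
        obtain ⟨d, R, -, hR⟩ := C.2
        have hd : (d : ℂ) = (C : G → ℂ) 1 := by rw [← hR, R.char_one, Module.finrank_fin_fun]
        have : ((d + 1 : ℕ) : ℂ) = 0 := by rw [hM'] at hd; push_cast at hd ⊢; linear_combination hd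
        exact absurd (Nat.cast_eq_zero.1 this) (by omega)
  have hd10 : (F 1 : G → ℂ) 1 = 10 := by rw [hF1]; norm_num
  have hw1 : w ≠ 1 := fun h => by
    obtain ⟨a, ha, hS⟩ := hb.shape
    obtain ⟨-, h2, -⟩ := fam_of_shape (by norm_num) (h ▸ hb.cen) ha hS hF
    norm_num at h2
  have hinj : Function.Injective w := by
    intro a b hab
    have h1 : w (a * b⁻¹) = 1 := by rw [map_mul, hab, ← map_mul, mul_inv_cancel, map_one]
    have h2 : ((a * b⁻¹ : Subgroup.center G) : G) = 1 := hb.faith _ (by rw [cen_one hb.cen, h1, one_mul])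
    exact mul_inv_eq_one.1 (Subtype.ext h2)
  obtain ⟨z₀, hz₀⟩ : ∃ z₀, w z₀ ≠ 1 := by
    by_contra hno
    push Not at hno
    exact hw1 (MonoidHom.ext hno)
  have hpm : ∀ z, w z = 1 ∨ w z = -1 := fun z => mul_self_eq_one_iff.1 (DFunLike.congr_fun hW z)
  have hwz : w z₀ = -1 := (hpm z₀).resolve_left hz₀
  have hz1 : z₀ ≠ 1 := fun h => hz₀ (by rw [h, map_one])
  have hcard : Nat.card (Subgroup.center G) = 2 := by
    rw [Nat.card_eq_two_iff' (1 : Subgroup.center G)]
    exact ⟨z₀, hz1, fun z hz => hinj (((hpm z).resolve_left fun h => hz (hinj (h.trans (map_one w).symm))).trans hwz.symm)⟩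
  -- the product with the conjugate
  set ψ : G → ℂ := fun g => (ζ : G → ℂ) g * conj ((ζ : G → ℂ) g) with hψ
  have hψc : IsCharacter G ψ := isCharacter_mul (isCharacter_of_irr ζ.2) (isCharacter_conj (isCharacter_of_irr ζ.2))
  have hψ1 : classInner ψ (oneC G : G → ℂ) = 1 := by
    rw [← classInner_irr_self ζ.2, classInner, classInner]
    congr 1
    refine Finset.sum_congr rfl fun g _ => ?_
    show (ζ : G → ℂ) g * conj ((ζ : G → ℂ) g) * conj (1 : ℂ) = _
    rw [map_one, mul_one]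
  have hψψ : classInner ψ ψ = 2 := by
    rw [hψ, classInner_mul_swap, show (fun g => (ζ : G → ℂ) g ^ 2) = (F b : G → ℂ) + (X : G → ℂ) by
      funext g; rw [Pi.add_apply, hFb, hXf, sq_eq_add],
      classInner_add_left, classInner_add_right, classInner_add_right,
      classInner_irr_self (F b).2, classInner_irr_self X.2]
    have hne : (F b : G → ℂ) ≠ (X : G → ℂ) := fun h => by
      have h' := congrFun h 1
      rw [hd1, hX1] at h'
      norm_num at h'
    rw [classInner_irr_ne (F b).2 X.2 hne, classInner_irr_ne X.2 (F b).2 (Ne.symm hne)]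
    norm_num
  have hYc : IsCharacter G (ψ - (oneC G : G → ℂ)) :=
    isCharacter_sub_irr hψc (oneC G).2 (by rw [hψ1]; exact one_ne_zero)
  have hYn : classInner (ψ - (oneC G : G → ℂ)) (ψ - (oneC G : G → ℂ)) = 1 := by
    rw [classInner_sub_left, classInner_sub_right, classInner_sub_right, hψψ, hψ1, classInner_irr_self (oneC G).2,
      ← classInner_comm ψ (oneC G : G → ℂ), hψ1, map_one]
    norm_num
  set Y : IrrCharacter G := ⟨_, irr_of_char_norm_one hYc hYn⟩ with hYdef
  have hY1 : (Y : G → ℂ) 1 = 15 := by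
    show (ζ : G → ℂ) 1 * conj ((ζ : G → ℂ) 1) - 1 = _
    rw [hb.deg, show (conj (4 : ℂ)) = 4 from map_ofNat _ 4]
    norm_num
  have hY : Y ∈ others F 1 := mem_others.2 ⟨fun g z => by
    show (ζ : G → ℂ) (g * z) * conj ((ζ : G → ℂ) (g * z)) - 1 = 1 * ((ζ : G → ℂ) g * conj ((ζ : G → ℂ) g) - 1)
    rw [hb.cen g z, map_mul]
    rcases hpm z with h | h <;> rw [h] <;> simp, fun a ha h => by
    have h1 := congrFun (congrArg Subtype.val h) 1
    rw [hY1, (fam_deg hF ha).1] at h1
    norm_num at h1⟩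
  obtain ⟨hYx, M', hYm, hYd⟩ := others_sg hF hY
  have hYm3 : CfsgLib.FeitSmall.mult x (Y : G → ℂ) (0 : ZMod 7) = 3 := by
    obtain ⟨a, ha, hm⟩ := hb.mult
    obtain ⟨-, -, t3, -⟩ := table_sq a ha
    have e : (Y : G → ℂ) = fun g => (fun g => (ζ : G → ℂ) g * (fun g => conj ((ζ : G → ℂ) g)) g) g +
        (fun g => (-1 : ℂ) * (oneC G : G → ℂ) g) g := by
      funext g
      show (ζ : G → ℂ) g * conj ((ζ : G → ℂ) g) - 1 = _ + (-1 : ℂ) * 1
      ring
    rw [e, mult_add, mult_smul, mult_oneC, if_pos rfl, mult_mul,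
      Finset.sum_congr rfl fun y _ => show CfsgLib.FeitSmall.mult x (ζ : G → ℂ) y *
        CfsgLib.FeitSmall.mult x (fun g => conj ((ζ : G → ℂ) g)) (0 - y) = ((mz a y * mz a y : ℕ) : ℂ) by
        rw [CfsgLib.FeitSmall.mult_conj, zero_sub, neg_neg, hm, Complex.conj_natCast, Nat.cast_mul],
      ← Nat.cast_sum, t3]
    norm_num
  have hYs : sg x Y = 1 := by
    rw [hYm3] at hYm
    rw [hY1] at hYd
    have a1 : (3 : ℤ) = M' + sg x Y := by exact_mod_cast hYm
    have a2 : (15 : ℤ) = 7 * M' + sg x Y := by exact_mod_cast hYd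
    omega
  have hYC : C = Y := by
    rcases T.all Y hY (by rw [hYs]; norm_num) with h | h | h
    · rw [h] at hY1; change (1 : ℂ) = 15 at hY1; norm_num at hY1
    · rw [h, hXs] at hYs; norm_num at hYs
    · exact h.symm
  subst hYC
  have hCv : ∀ g, (Y : G → ℂ) g = (ζ : G → ℂ) g * conj ((ζ : G → ℂ) g) - 1 := fun g => rfl
  have hXint : ∀ g, ∃ r : ℤ, (X : G → ℂ) g = r := integral_values hF T hone hX (by rw [hXs]; norm_num)
    (by rw [hX1, hd10]; norm_num) (by
      rintro χ (rfl | rfl | rfl) h1 h2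
      · rw [hone_s, hXs] at h1; norm_num at h1
      · rfl
      · rw [hYs, hXs] at h1; norm_num at h1)
  have hCint : ∀ g, ∃ r : ℤ, (Y : G → ℂ) g = r := integral_values hF T hone hY (by rw [hYs]; norm_num)
    (by rw [hY1, hd10]; norm_num) (by
      rintro χ (rfl | rfl | rfl) h1 h2
      · rw [hY1] at h2; change (1 : ℂ) = 15 at h2; norm_num at h2
      · rw [hX1, hY1] at h2; norm_num at h2
      · rfl)
  have hsq : ∀ g : G, ¬ 7 ∣ orderOf g → (ζ : G → ℂ) g ^ 2 = (ζ : G → ℂ) g * conj ((ζ : G → ℂ) g) := by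
    intro g hg
    have h := hsum g hg
    rw [hYs, hFb, hCv, hXf] at h
    push_cast at h
    rw [sq_eq_add g]
    linear_combination -h
  refine ⟨z₀, hcard, hz1, hwz, ?_, fun g hg => ?_, fun g => by rw [← hXf]; exact hXint g, fun g hg => ?_,
    fun y z hy hz => ?_⟩
  · have h := CfsgLib.CharTheory.ThreeDegrees.degree_dvd_card Y.2
    rwa [Nat.cast_inj.1 (show (charDegree (Y : G → ℂ) : ℂ) = ((15 : ℕ) : ℂ) by
      rw [irr_charDegree_cast, hY1]; norm_num)] at h
  · by_cases h0 : (ζ : G → ℂ) g = 0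
    · rw [h0, map_zero]
    · have h := hsq g hg
      rw [pow_two] at h
      exact (mul_left_cancel₀ h0 h).symm
  · obtain ⟨r, hr⟩ := hCint g
    refine ⟨r + 1, ?_⟩
    rw [hsq g hg]
    rw [hCv] at hr
    push_cast
    linear_combination hr
  · have h := others_pair hb.hH hF hy hz
    rw [T.sum, hone_s, hXs, hYs, hF.agree 1 b one_ne_zero hb0 y (not_dvd_of_square hb.hH D hy),
      hF.agree 1 b one_ne_zero hb0 z (not_dvd_of_square hb.hH D hz), hd10, hFb] at h
    change ((1 : ℤ) : ℂ) * (1 * 1 / 1) + _ = _ at h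
    rw [hX1, hY1, hXf, hCv, hCv] at h
    push_cast at h
    linear_combination h

end CfsgLib.LinearSmall.SevenFour
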