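import Mathlib

/-!
# Four sixteenth roots of unity with rational squares
-/

namespace CfsgLib.LinearSmall.SevenFour

/-- The coordinate of a sixteenth root of unity in the power basis. -/
def coordOne (k i : ℕ) : ℤ :=
  if k % 8 = i then (if k % 16 < 8 then 1 else -1) else 0

/-- The coordinates of a sum of sixteenth roots of unity. -/
def coord : List ℕ → ℕ → ℤ
  | [], _ => 0
  | k :: l, i => coordOne k i + coord l i

/-- Equal coordinates. -/
def sameVec (l l' : List ℕ) : Bool := (List.range 8).all fun i => coord l i == coord l' i

/-- A rational sum. -/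
def ratVec (l : List ℕ) : Bool := (List.range 7).all fun i => coord l (i + 1) == 0

/-- The sum is `4` or `-4`. -/
def centVec (l : List ℕ) : Bool := ratVec l && (coord l 0 == 4 || coord l 0 == -4)

/-- The exponents of a power. -/
def powList (j : ℕ) (l : List ℕ) : List ℕ := l.map (j * ·)

/-- The exponents of the exterior square. -/
def pairList (a b c d : ℕ) : List ℕ := [a + b, a + c, a + d, b + c, b + d, c + d]

/-- The power with square equal to a given scalar is central. -/
def powOk (v j : ℕ) (l : List ℕ) : Bool :=
  !(l.all fun k => 2 * j * k % 16 == v) || centVec (powList j l)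

/-- The value of the square of the character. -/
def sqVal (a b c d : ℕ) : ℤ := coord (powList 2 [a, b, c, d]) 0 + 2 * coord (pairList a b c d) 0

/-- The value of the exterior square. -/
def extVal (a b c d : ℕ) : ℤ := coord (pairList a b c d) 0

/-- The admissible exponents. -/
def admissible (a b c d : ℕ) : Bool :=
  sameVec [a, b, c, d] (powList 15 [a, b, c, d]) && ratVec (powList 2 [a, b, c, d]) &&
    ratVec (pairList a b c d)

/-- The claim on one choice of exponents. -/
def claim (a b c d : ℕ) : Bool :=
  ([a, b, c, d].all fun k => k % 2 == 0) &&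
    (!(powOk 0 1 [a, b, c, d] && powOk 0 2 [a, b, c, d] && powOk 0 4 [a, b, c, d]) ||
      (extVal a b c d * extVal a b c d - 2 * extVal a b c d - sqVal a b c d == 0 || sqVal a b c d == 16)) &&
    (!(powOk 8 1 [a, b, c, d] && powOk 8 2 [a, b, c, d] && powOk 8 4 [a, b, c, d]) ||
      (sqVal a b c d * sqVal a b c d - 6 * sqVal a b c d + 2 * extVal a b c d + 4 == 0 ||
        sqVal a b c d == 16))

/-- The fourth exponent. -/
def fourth (a b c : ℕ) : ℕ := (48 - (a + b + c)) % 16

theorem table : (List.range 16).all (fun a => (List.range 16).all fun b => (List.range 16).all fun c =>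
    !admissible a b c (fourth a b c) || claim a b c (fourth a b c)) = true := by
  decide +kernel

end CfsgLib.LinearSmall.SevenFour
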