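import Cfsg.Agent.Lib.LinearSmall.SevenFour.Chars

/-!
# The three characters outside a family and two classes of involutions
-/

namespace CfsgLib.LinearSmall.SevenFour

open Cfsg CfsgLib.Blocks CfsgLib.Blocks.DefectOne CfsgLib.CharTheory CfsgLib.CharTheory.SmallDegree
open CfsgLib.SmallSylow CfsgLib.FeitSmall Finset
open CfsgLib.LinearSmall.Nineteen (world others mem_others others_shape others_sq others_reg others_rel world_sum center_pow_p)
open scoped ComplexConjugate

set_option linter.unusedVariables false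
set_option linter.style.haveILetI false
set_option linter.unusedSectionVars false

universe u

variable {G : Type u} [Group G] [Fintype G] {P : Sylow 7 G} {x : G} {D : Data P x 3 2}
  {W : Subgroup.center G →* ℂ} {F : ZMod 7 → IrrCharacter G} {n : ℕ} {ε : ℤ}

/-- The integral value at `x`. -/
noncomputable def sg (x : G) (χ : IrrCharacter G) : ℤ := by
  classical exact if h : ∃ s : ℤ, (χ : G → ℂ) x = s then h.choose else 0

theorem sg_eq {χ : IrrCharacter G} {s : ℤ} (h : (χ : G → ℂ) x = s) : sg x χ = s := by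
  have he : ∃ s : ℤ, (χ : G → ℂ) x = s := ⟨s, h⟩
  rw [sg, dif_pos he]
  exact_mod_cast he.choose_spec.symm.trans h

theorem others_sg (hF : Fam D W F n ε) {χ : IrrCharacter G} (hχ : χ ∈ others F W) :
    (χ : G → ℂ) x = sg x χ ∧ ∃ M : ℕ, CfsgLib.FeitSmall.mult x (χ : G → ℂ) (0 : ZMod 7) = (M : ℂ) + sg x χ ∧
      (χ : G → ℂ) 1 = 7 * (M : ℂ) + sg x χ := by
  obtain ⟨σ, M, h0, -, hσ, h1⟩ := others_shape hF hχ
  rw [sg_eq hσ]
  exact ⟨hσ, M, h0, by rw [h1]; norm_num⟩

/-- The signed characters outside the family are three. -/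
structure Three (x : G) (F : ZMod 7 → IrrCharacter G) (W : Subgroup.center G →* ℂ) (A B C : IrrCharacter G) : Prop where
  memB : B ∈ others F W
  memC : C ∈ others F W
  ne : A ≠ B ∧ A ≠ C ∧ B ≠ C
  signB : sg x B = 1 ∨ sg x B = -1
  signC : sg x C = 1 ∨ sg x C = -1
  all : ∀ χ ∈ others F W, sg x χ ≠ 0 → χ = A ∨ χ = B ∨ χ = C
  sum : ∀ φ : IrrCharacter G → ℂ, ∑ χ ∈ others F W, (sg x χ : ℂ) * φ χ =
    (sg x A : ℂ) * φ A + ((sg x B : ℂ) * φ B + (sg x C : ℂ) * φ C)

theorem exists_three (hH : Compl (P : Subgroup G) (Subgroup.center G)) (hF : Fam D W F n ε)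
    {A : IrrCharacter G} (hA : A ∈ others F W) (hA0 : sg x A ≠ 0) : ∃ B C, Three x F W A B C := by
  classical
  set T := (others F W).filter fun χ => sg x χ ≠ 0 with hT
  have h3 := others_sq hH hF (sg x) (fun χ hχ => (others_sg hF hχ).1)
  have hTs : ∑ χ ∈ T, sg x χ * sg x χ = 3 := by
    rw [hT, Finset.sum_filter_of_ne (p := fun χ => sg x χ ≠ 0) fun χ _ h h0 => h (by rw [h0, mul_zero]), h3]
    norm_num
  have hpos : ∀ χ ∈ T, 1 ≤ sg x χ * sg x χ := fun χ hχ => by
    have h0 := (mem_filter.1 hχ).2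
    nlinarith [mul_self_pos.2 h0]
  have hsgn : ∀ χ ∈ T, sg x χ = 1 ∨ sg x χ = -1 := by
    intro χ hχ
    have h1 : sg x χ * sg x χ ≤ 3 := hTs ▸ Finset.single_le_sum (f := fun χ => sg x χ * sg x χ)
      (fun i hi => le_trans zero_le_one (hpos i hi)) hχ
    have h0 := (mem_filter.1 hχ).2
    have h2 : -1 ≤ sg x χ := by nlinarith
    have h4 : sg x χ ≤ 1 := by nlinarith
    omega
  have hcard : T.card = 3 := by
    have h1 : ∑ χ ∈ T, sg x χ * sg x χ = ∑ χ ∈ T, (1 : ℤ) :=
      Finset.sum_congr rfl fun χ hχ => by rcases hsgn χ hχ with h | h <;> rw [h] <;> norm_num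
    rw [hTs, sum_const, nsmul_eq_mul, mul_one] at h1
    exact_mod_cast h1.symm
  have hAT : A ∈ T := mem_filter.2 ⟨hA, hA0⟩
  obtain ⟨B, C, hBC, hE⟩ := Finset.card_eq_two.1 (show (T.erase A).card = 2 by
    rw [card_erase_of_mem hAT, hcard])
  have hB : B ∈ T.erase A := hE ▸ mem_insert_self B {C}
  have hC : C ∈ T.erase A := hE ▸ mem_insert_of_mem (mem_singleton_self C)
  obtain ⟨hBA, hBT⟩ := mem_erase.1 hB
  obtain ⟨hCA, hCT⟩ := mem_erase.1 hC
  refine ⟨B, C, (mem_filter.1 hBT).1, (mem_filter.1 hCT).1, ⟨Ne.symm hBA, Ne.symm hCA, hBC⟩, hsgn B hBT, hsgn C hCT,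
    fun χ hχ h0 => ?_, fun φ => ?_⟩
  · by_cases he : χ = A
    · exact Or.inl he
    · have : χ ∈ T.erase A := mem_erase.2 ⟨he, mem_filter.2 ⟨hχ, h0⟩⟩
      rw [hE, mem_insert, mem_singleton] at this
      exact Or.inr this
  · rw [← Finset.sum_filter_of_ne (p := fun χ => sg x χ ≠ 0) fun χ _ h h0 => h (by rw [h0, Int.cast_zero, zero_mul]),
      ← hT, ← Finset.add_sum_erase _ _ hAT, hE, Finset.sum_pair hBC]

/-- Two elements with central squares never multiply into the class of `x` up to the centre. -/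
theorem pair_eq_zero {p : ℕ} [Fact p.Prime] {P : Sylow p G} {e t : ℕ}
    (hH : Compl (P : Subgroup G) (Subgroup.center G)) (D : Data P x e t)
    (hneg : (-1 : ZMod p) ∉ rts p e) {y z : G} (hy : y * y ∈ Subgroup.center G) (hz : z * z ∈ Subgroup.center G)
    (c : Subgroup.center G) : pairCount y z (x * c) = 0 := by
  rw [pairCount, Nat.card_eq_zero]
  refine Or.inl ⟨fun ⟨a, ha, hb⟩ => hneg ?_⟩
  obtain ⟨k, hk⟩ := isConj_iff.1 ha
  obtain ⟨l, hl⟩ := isConj_iff.1 hb
  set b := a⁻¹ * (x * (c : G)) with hbdef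
  set s := y * y with hsdef
  set r := z * z with hrdef
  have has : a * a = s := by
    rw [← hk, show k * y * k⁻¹ * (k * y * k⁻¹) = k * (y * y) * k⁻¹ by group,
      Subgroup.mem_center_iff.1 hy k, mul_inv_cancel_right]
  have hbs : b * b = r := by
    rw [← hl, show l * z * l⁻¹ * (l * z * l⁻¹) = l * (z * z) * l⁻¹ by group,
      Subgroup.mem_center_iff.1 hz l, mul_inv_cancel_right]
  have hab : a * b = x * (c : G) := by rw [hbdef, mul_inv_cancel_left]
  have hy' : a * (x * (c : G)) * a⁻¹ = s * r * (x * (c : G))⁻¹ := by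
    rw [← hab, _root_.mul_inv_rev, show b⁻¹ = b * r⁻¹ by rw [← hbs]; group,
      show s * r * (b * r⁻¹ * a⁻¹) = s * (r * b) * r⁻¹ * a⁻¹ by group,
      ← Subgroup.mem_center_iff.1 hz b, show s * (b * r) * r⁻¹ * a⁻¹ = s * b * a⁻¹ by group,
      ← has]
    group
  obtain ⟨N, hN, hNz⟩ : ∃ N, ¬ p ∣ N ∧ ∀ y ∈ Subgroup.center G, y ^ N = 1 :=
    ⟨Nat.card (Subgroup.center G), fun hd => by
      obtain ⟨y, hy⟩ := exists_prime_orderOf_dvd_card' p hd
      have h1 := center_pow_p hH D (z := y) (by rw [← hy, ← Subgroup.orderOf_coe, pow_orderOf_eq_one])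
      rw [h1, orderOf_one] at hy
      exact (Fact.out : p.Prime).one_lt.ne hy,
     fun y hy => congrArg Subtype.val (pow_card_eq_one' (x := (⟨y, hy⟩ : Subgroup.center G)))⟩
  have hcomm : ∀ (g : G) (y : G), y ∈ Subgroup.center G → Commute g y :=
    fun g y hy => Subgroup.mem_center_iff.1 hy g
  have hpow := congrArg (fun g : G => g ^ N) hy'
  simp only [conj_pow] at hpow
  rw [(hcomm x c c.2).mul_pow, hNz _ c.2, mul_one, ((hcomm _ _ (mul_mem hy hz)).symm).mul_pow,
    hNz _ (mul_mem hy hz), one_mul, inv_pow, (hcomm x c c.2).mul_pow, hNz _ c.2, mul_one] at hpow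
  rw [← xp_natCast D.pow] at hpow
  have hN0 : (N : ZMod p) ≠ 0 := fun h0 => hN ((ZMod.natCast_eq_zero_iff N p).1 h0)
  have hinv : (xp x (N : ZMod p))⁻¹ = xp x (-(N : ZMod p)) := by
    refine inv_eq_of_mul_eq_one_right ?_
    rw [← xp_add D.pow, add_neg_cancel, xp_zero]
  rw [hinv] at hpow
  have h1 := (conj_xp_iff D hN0).1 ⟨a, hpow⟩
  rwa [neg_div, div_self hN0] at h1

theorem neg_one_notMem : (-1 : ZMod 7) ∉ rts 7 3 := by rw [rts_eq]; decide

theorem not_dvd_of_square (hH : Compl (P : Subgroup G) (Subgroup.center G)) (D : Data P x 3 2) {g : G}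
    (hg : g * g ∈ Subgroup.center G) : ¬ 7 ∣ orderOf g := fun hd => by
  have hN : ¬ 7 ∣ 2 * Nat.card (Subgroup.center G) := by
    intro h
    rcases (Nat.prime_seven.dvd_mul).1 h with h | h
    · norm_num at h
    · obtain ⟨y, hy⟩ := exists_prime_orderOf_dvd_card' 7 h
      have h1 := center_pow_p hH D (z := y) (by rw [← hy, ← Subgroup.orderOf_coe, pow_orderOf_eq_one])
      rw [h1, orderOf_one] at hy
      norm_num at hy
  refine hN (hd.trans (orderOf_dvd_of_pow_eq_one ?_))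
  rw [pow_mul, pow_two]
  exact congrArg Subtype.val (pow_card_eq_one' (x := (⟨g * g, hg⟩ : Subgroup.center G)))

/-- The relation from a vanishing class sum. -/
theorem others_pair (hH : Compl (P : Subgroup G) (Subgroup.center G)) (hF : Fam D W F n ε) {y z : G}
    (hy : y * y ∈ Subgroup.center G) (hz : z * z ∈ Subgroup.center G) :
    ∑ χ ∈ others F W, (sg x χ : ℂ) * ((χ : G → ℂ) y * (χ : G → ℂ) z / (χ : G → ℂ) 1) =
      (ε : ℂ) * ((F 1 : G → ℂ) y * (F 1 : G → ℂ) z / (F 1 : G → ℂ) 1) := by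
  classical
  refine others_rel hF (sg x) (fun χ hχ => (others_sg hF hχ).1)
    (fun χ => (χ : G → ℂ) y * (χ : G → ℂ) z / (χ : G → ℂ) 1) (fun a ha => ?_) ?_
  · have hag := hF.agree a 1 ha one_ne_zero
    simp only [hag y (not_dvd_of_square hH D hy), hag z (not_dvd_of_square hH D hz), hag 1 (by simp)]
  have h0 : ∀ c : Subgroup.center G,
      ∑ χ : IrrCharacter G, (χ : G → ℂ) y * (χ : G → ℂ) z / (χ : G → ℂ) 1 * conj ((χ : G → ℂ) (x * c)) = 0 := by
    intro c
    have h := pairCount_mul y z (x * (c : G))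
    rw [pair_eq_zero hH D neg_one_notMem hy hz c, Nat.cast_zero, zero_mul] at h
    have h2 : ∀ χ : IrrCharacter G, clv y χ * ((χ : G → ℂ) z * conj ((χ : G → ℂ) (x * c))) =
        ((Subgroup.centralizer ({y} : Set G)).index : ℂ) *
          ((χ : G → ℂ) y * (χ : G → ℂ) z / (χ : G → ℂ) 1 * conj ((χ : G → ℂ) (x * c))) := fun χ => by
      rw [clv, centralChar]; ring
    rw [Finset.sum_congr rfl fun χ _ => h2 χ, ← Finset.mul_sum] at h
    exact (mul_eq_zero.1 h.symm).resolve_left (Nat.cast_ne_zero.2 Subgroup.index_ne_zero_of_finite)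
  have h := world_sum W x (fun χ => (χ : G → ℂ) y * (χ : G → ℂ) z / (χ : G → ℂ) 1) 0 (by simpa using h0 1)
    fun c _ => h0 c
  exact (mul_eq_zero.1 h).resolve_left (Nat.cast_ne_zero.2 Nat.card_pos.ne')

end CfsgLib.LinearSmall.SevenFour
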